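import Cfsg.Agent.Lib.Pres.SU.Chain.Gen
import Cfsg.Agent.Lib.Classical.SU2
import Cfsg.Agent.Lib.Pres.SpWords

/-!
Generators of `SU 2` and `SU 3`.
-/

set_option autoImplicit false

namespace CfsgLib.Pres.SU.Chain

open Matrix CfsgLib.Classical CfsgLib.Classical.Unitary
open scoped MatrixGroups

variable {F : Type*} [Field F] {σ : F →+* F} {q : ℕ}

/-- The first two of three coordinates. -/
abbrev f01 : Fin 2 ↪ Fin 3 := low (show 2 ≤ 3 by omega)

/-- The last two of three coordinates. -/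
def f12 : Fin 2 ↪ Fin 3 := ⟨Fin.succ, Fin.succ_injective 2⟩

/-- `SU 2` has two generators. -/
theorem exists_two_su_two [Finite F] (hF : Nat.card F = q ^ 2) :
    ∃ A B : Cfsg.SU 2 F q, Subgroup.closure {A, B} = ⊤ := by
  obtain ⟨σ, hσ, hσne, hσ2⟩ := exists_frob hF
  let K := σ.eqLocusField (RingHom.id F)
  have hK : Nat.card K = q := fixed_card_eq hF hσ
  obtain ⟨e⟩ := SL2_equiv_SU2 (K := K) hF hK
  obtain ⟨A, B, hAB⟩ := CfsgLib.Pres.SpW.exists_two (F := K)
  refine ⟨e.symm A, e.symm B, ?_⟩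
  rw [← Set.image_pair, show (⇑e.symm : SL(2, K) → Cfsg.SU 2 F q) = ⇑e.symm.toMonoidHom from rfl,
    ← MonoidHom.map_closure, hAB]
  exact Subgroup.map_top_of_surjective _ e.symm.surjective

/-- An element of `SU 2` from two entries. -/
theorem exists_su_two (h : UFrob σ q) {α β : F} (hab : α * σ α + β * σ β = 1) :
    ∃ M : Cfsg.SU 2 F q, M.1.1 = !![α, -σ β; β, σ α] := by
  refine ⟨⟨⟨!![α, -σ β; β, σ α], by rw [det_fin_two_of]; linear_combination hab⟩,
    mem_SU_iff.2 fun a b => ?_⟩, rfl⟩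
  show Cfsg.hermForm 2 F q (!![α, -σ β; β, σ α] *ᵥ a) (!![α, -σ β; β, σ α] *ᵥ b) = _
  simp only [h.hermForm_eq, uh, dotProduct, Function.comp_apply, mulVec, Fin.sum_univ_two,
    Matrix.of_apply, Matrix.cons_val_zero, Matrix.cons_val_one, map_add, map_mul, map_neg, h.invol]
  linear_combination (a 0 * σ (b 0) + a 1 * σ (b 1)) * hab

/-- A subgroup containing the first plane and transitive on vectors of norm one is everything. -/
theorem top_of_transitive [Finite F] (h : UFrob σ q) (H : Subgroup (Cfsg.SU 3 F q))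
    (h01 : ∀ M, embF h f01 M ∈ H)
    (htr : ∀ y : Fin 3 → F, uh σ y y = 1 → ∃ g ∈ H, g.1.1 *ᵥ y = Pi.single 2 1) : H = ⊤ := by
  refine eq_top_iff.2 fun g _ => ?_
  obtain ⟨t, ht, hty⟩ := htr (g.1.1 *ᵥ Pi.single 2 1) (by rw [su_uh h, uh_single_self h])
  obtain ⟨M, hM⟩ := mem_range_embF h f01 (t * g) fun j hj => by
    have : j = 2 := by
      fin_cases j
      · exact absurd rfl (hj 0)
      · exact absurd rfl (hj 1)
      · rfl
    rw [this, su_mul_mulVec]; exact hty
  have hg : g = t⁻¹ * embF h f01 M := by rw [hM]; group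
  rw [hg]
  exact H.mul_mem (H.inv_mem ht) (h01 M)

theorem embF12_apply (h : UFrob σ q) (M : Cfsg.SU 2 F q) (y : Fin 3 → F) :
    (embF h f12 M).1.1 *ᵥ y =
      ![y 0, M.1.1 0 0 * y 1 + M.1.1 0 1 * y 2, M.1.1 1 0 * y 1 + M.1.1 1 1 * y 2] := by
  funext i
  fin_cases i
  · exact embF_off h f12 M y fun i => Fin.succ_ne_zero i
  · refine (embF_on h f12 M y 0).trans ?_
    simp [Matrix.mulVec, dotProduct, Fin.sum_univ_two, f12]
  · refine (embF_on h f12 M y 1).trans ?_
    simp [Matrix.mulVec, dotProduct, Fin.sum_univ_two, f12]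

theorem embF01_apply (h : UFrob σ q) (M : Cfsg.SU 2 F q) (y : Fin 3 → F) :
    (embF h f01 M).1.1 *ᵥ y =
      ![M.1.1 0 0 * y 0 + M.1.1 0 1 * y 1, M.1.1 1 0 * y 0 + M.1.1 1 1 * y 1, y 2] := by
  funext i
  fin_cases i
  · refine (embF_on h f01 M y 0).trans ?_
    simp [Matrix.mulVec, dotProduct, Fin.sum_univ_two, f01, low]
    try rfl
  · refine (embF_on h f01 M y 1).trans ?_
    simp [Matrix.mulVec, dotProduct, Fin.sum_univ_two, f01, low]
    try rfl
  · exact embF_off h f01 M y fun i => low_ne (by simp) i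

theorem uh_three (y z : Fin 3 → F) :
    uh σ y z = y 0 * σ (z 0) + y 1 * σ (z 1) + y 2 * σ (z 2) := by
  simp [uh, dotProduct, Fin.sum_univ_three]

/-- Two planes generate `SU 3` unless the field has four elements. -/
theorem top_of_planes [Finite F] (hF : Nat.card F = q ^ 2) (h : UFrob σ q) (hq : 3 ≤ q)
    (H : Subgroup (Cfsg.SU 3 F q)) (h01 : ∀ M, embF h f01 M ∈ H)
    (h12 : ∀ M, embF h f12 M ∈ H) : H = ⊤ := by
  refine top_of_transitive h H h01 ?_
  have self : ∀ a : F, σ (a * σ a) = a * σ a := fun a => by rw [map_mul, h.invol, mul_comm]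
  have root : ∀ s : F, σ s = s → ∃ t, t * σ t = s := fun s hs => by
    obtain ⟨t, ht⟩ := exists_pow_succ_eq hF (c := s) (by rw [← h.pow, hs])
    exact ⟨t, by rwa [pow_succ', ← h.pow] at ht⟩
  -- moving two coordinates of nonzero norm
  have move : ∀ a b : F, a * σ a + b * σ b ≠ 0 → ∃ M : Cfsg.SU 2 F q, ∃ t : F,
      t * σ t = a * σ a + b * σ b ∧ M.1.1 0 0 * a + M.1.1 0 1 * b = 0 ∧
        M.1.1 1 0 * a + M.1.1 1 1 * b = t := by
    intro a b hs
    obtain ⟨t, ht⟩ := root _ (show σ (a * σ a + b * σ b) = a * σ a + b * σ b by rw [map_add, self, self])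
    have hsf : σ (a * σ a + b * σ b) = a * σ a + b * σ b := by rw [map_add, self, self]
    set s := a * σ a + b * σ b with hsdef
    have hN : b * (σ t / s) * σ (b * (σ t / s)) + σ a * (t / s) * σ (σ a * (t / s)) = 1 := by
      simp only [map_mul, map_div₀, h.invol, hsf]
      field_simp
      linear_combination (b * σ b + a * σ a) * ht + s * hsdef.symm
    obtain ⟨M, hM⟩ := exists_su_two h hN
    refine ⟨M, t, ht, ?_, ?_⟩ <;> rw [hM] <;>
      simp [map_mul, map_div₀, h.invol, hsf] <;> field_simp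
    · ring
    · linear_combination hsdef.symm
  -- the last plane
  have fin1 : ∀ a b : F, a * σ a + b * σ b = 1 → ∃ g ∈ H, g.1.1 *ᵥ ![0, a, b] = Pi.single 2 1 := by
    intro a b hab
    have hN : b * σ b + σ a * σ (σ a) = 1 := by rw [h.invol]; linear_combination hab
    obtain ⟨M, hM⟩ := exists_su_two h hN
    refine ⟨_, h12 M, ?_⟩
    rw [embF12_apply, hM]
    funext i
    fin_cases i <;> simp [h.invol] <;> first | ring1 | linear_combination hab | linear_combination -hab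
  have fin2 : ∀ y : Fin 3 → F, uh σ y y = 1 → y 0 = 0 → ∃ g ∈ H, g.1.1 *ᵥ y = Pi.single 2 1 := by
    intro y hy h0
    have e : y = ![0, y 1, y 2] := by funext i; fin_cases i <;> simp [h0]
    rw [uh_three, h0] at hy
    obtain ⟨g, hg, hg'⟩ := fin1 (y 1) (y 2) (by linear_combination hy)
    exact ⟨g, hg, by rw [e]; exact hg'⟩
  have comp : ∀ {y : Fin 3 → F} (t : Cfsg.SU 3 F q), t ∈ H →
      (∃ g ∈ H, g.1.1 *ᵥ (t.1.1 *ᵥ y) = Pi.single 2 1) → ∃ g ∈ H, g.1.1 *ᵥ y = Pi.single 2 1 :=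
    fun t ht ⟨g, hg, e⟩ => ⟨g * t, H.mul_mem hg ht, by rw [su_mul_mulVec, e]⟩
  -- a nonzero norm on the first plane
  have case01 : ∀ y : Fin 3 → F, uh σ y y = 1 → y 0 * σ (y 0) + y 1 * σ (y 1) ≠ 0 →
      ∃ g ∈ H, g.1.1 *ᵥ y = Pi.single 2 1 := by
    intro y hy hs
    obtain ⟨M, t, -, e0, e1⟩ := move _ _ hs
    refine comp _ (h01 M) (fin2 _ (by rw [su_uh h, hy]) ?_)
    rw [embF01_apply]; exact e0
  intro y hy
  by_cases hs : y 0 * σ (y 0) + y 1 * σ (y 1) = 0
  swap
  · exact case01 y hy hs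
  have hy2 : y 2 * σ (y 2) = 1 := by rw [uh_three] at hy; linear_combination hy - hs
  by_cases h0 : y 0 = 0
  · exact fin2 y hy h0
  -- otherwise make the norm on the first plane nonzero by the last plane
  by_cases hs' : y 1 * σ (y 1) + y 2 * σ (y 2) = 0
  swap
  · obtain ⟨M, t, ht, e0, e1⟩ := move _ _ hs'
    refine comp _ (h12 M) (case01 _ (by rw [su_uh h, hy]) ?_)
    rw [embF12_apply]
    show y 0 * σ (y 0) + (M.1.1 0 0 * y 1 + M.1.1 0 1 * y 2) * σ _ ≠ 0
    rw [e0, zero_mul, add_zero]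
    exact mul_ne_zero h0 (by simpa using h0)
  have h0N : y 0 * σ (y 0) = 1 := by linear_combination hs - hs' + hy2
  have h1N : y 1 * σ (y 1) = -1 := by linear_combination hs' - hy2
  by_cases h2 : (2 : F) = 0
  swap
  · obtain ⟨M, hM⟩ := exists_su_two h (α := (0 : F)) (β := 1) (by simp)
    refine comp _ (h01 M) ?_
    rw [embF01_apply, hM]
    obtain ⟨M', t, ht, e0, e1⟩ := move (y 0) (y 2) (by
      rw [h0N, hy2, one_add_one_eq_two]; exact h2)
    refine comp _ (h12 M') (case01 _ ?_ ?_)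
    · rw [su_uh h, uh_three]
      simp
      rw [uh_three] at hy
      linear_combination hy
    · rw [embF12_apply]
      simp only [Matrix.cons_val_zero, Matrix.cons_val_one, Matrix.of_apply, Matrix.cons_val,
        Matrix.cons_val', Matrix.empty_val', Matrix.cons_val_fin_one]
      simp [e0]
      intro e; rw [e] at h1N; simp at h1N
  -- characteristic two: rescale an isotropic pair
  have hneg : (-1 : F) = 1 := by linear_combination -h2
  rw [hneg] at h1N
  obtain ⟨a, b, ha, hb, hab⟩ := exists_ne_norm hF h hq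
  obtain ⟨κ, hκf, hκ0, hκ1⟩ : ∃ κ : F, σ κ = κ ∧ κ ≠ 0 ∧ κ ≠ 1 :=
    ⟨a * σ a, self a, mul_ne_zero ha (by simpa using ha),
      fun e => mul_ne_zero hb (show σ b ≠ 0 by simpa using hb) (by linear_combination hab - e)⟩
  obtain ⟨θ, hθ⟩ := exists_trace h
  obtain ⟨α, hα⟩ : ∃ α, α = θ * ((1 + κ * κ) / κ) := ⟨_, rfl⟩
  have hαt : α + σ α = (1 + κ * κ) / κ := by
    rw [hα, map_mul, map_div₀, map_add, map_mul, map_one, hκf]
    linear_combination ((1 + κ * κ) / κ) * hθ
  obtain ⟨u, hu⟩ : ∃ u, u = y 1 / y 0 := ⟨_, rfl⟩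
  have huN : u * σ u = 1 := by rw [hu, map_div₀, div_mul_div_comm, h1N, h0N, div_one]
  have hN : α * σ α + (κ + σ α) * u * σ ((κ + σ α) * u) = 1 := by
    have e : (α + σ α) * κ = 1 + κ * κ := by rw [hαt, div_mul_cancel₀ _ hκ0]
    simp only [map_mul, map_add, h.invol, hκf]
    linear_combination ((κ + σ α) * (κ + α)) * huN + e + (κ * κ + α * σ α) * h2
  obtain ⟨M, hM⟩ := exists_su_two h hN
  refine comp _ (h01 M) ?_
  have hy1 : y 1 = u * y 0 := by rw [hu, div_mul_cancel₀ _ h0]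
  have eM : (embF h f01 M).1.1 *ᵥ y = ![κ * y 0, κ * y 1, y 2] := by
    rw [embF01_apply, hM]
    funext i
    fin_cases i <;> simp [map_mul, map_add, h.invol, hκf, hy1]
    · linear_combination ((-κ - α) * y 0) * huN + (-(κ * y 0)) * h2
    · linear_combination (σ α * u * y 0) * h2
  rw [eM]
  obtain ⟨M', t, ht, e0, e1⟩ := move (κ * y 1) (y 2) (by
    rw [map_mul, hκf, show κ * y 1 * (κ * σ (y 1)) = κ * κ * (y 1 * σ (y 1)) by ring, h1N, hy2,
      mul_one]
    intro e
    apply hκ1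
    have : (κ - 1) * (κ - 1) = 0 := by linear_combination e - κ * h2
    exact sub_eq_zero.1 (mul_self_eq_zero.1 this))
  refine comp _ (h12 M') (case01 _ ?_ ?_)
  · rw [← eM, su_uh h, su_uh h, hy]
  · rw [embF12_apply]
    simp [e0, h0, hκ0, map_mul]

section FieldFour

variable [Finite F]

theorem norm_four (hF : Nat.card F = 2 ^ 2) (h : UFrob σ 2) {x : F} (hx : x ≠ 0) : x * σ x = 1 := by
  have := Fintype.ofFinite F
  have h3 := FiniteField.pow_card_sub_one_eq_one x hx
  rw [← Nat.card_eq_fintype_card, hF] at h3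
  rw [h.pow, ← pow_succ']
  exact h3

/-- Two generators of `SU 3` over the field of four elements. -/
theorem exists_two_su_three (hF : Nat.card F = 2 ^ 2) (h : UFrob σ 2) :
    ∃ x y : Cfsg.SU 3 F 2, Subgroup.closure {x, y} = ⊤ := by
  classical
  obtain ⟨ω, hω, hω3, hωσ⟩ := exists_omega hF h rfl
  have h2 : (2 : F) = 0 := two_eq_zero_of_q_two hF rfl
  have hω0 : ω ≠ 0 := fun e => by simp [e] at hω3
  have hmem : ∀ M : Matrix (Fin 3) (Fin 3) F, Mᵀ * M.map σ = 1 → ∀ hd : M.det = 1,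
      (⟨M, hd⟩ : SL(3, F)) ∈ Cfsg.SU 3 F 2 := by
    intro M hM hd
    refine mem_SU_iff.2 fun u v => ?_
    show Cfsg.hermForm 3 F 2 (M *ᵥ u) (M *ᵥ v) = _
    rw [h.hermForm_eq, h.hermForm_eq, uh, uh,
      show σ ∘ (M *ᵥ v) = M.map σ *ᵥ (σ ∘ v) from funext fun i => RingHom.map_mulVec σ M v i,
      dotProduct_mulVec, vecMul_mulVec, hM, vecMul_one]
  let Wm : Matrix (Fin 3) (Fin 3) F := !![1, 1, 1; 1, ω, ω ^ 2; 1, ω ^ 2, ω]
  let Vm : Matrix (Fin 3) (Fin 3) F := !![1, 1, ω ^ 2; 1, ω, ω; ω, 1, ω]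
  have hW1 : Wm.det = 1 := by simp [Wm, Matrix.det_fin_three]; grobner
  have hV1 : Vm.det = 1 := by simp [Vm, Matrix.det_fin_three]; grobner
  let W : Cfsg.SU 3 F 2 := ⟨⟨Wm, hW1⟩, hmem _ (by
    ext i j; fin_cases i <;> fin_cases j <;>
      simp [Wm, Matrix.mul_apply, Fin.sum_univ_three, hωσ] <;> grobner) hW1⟩
  let V : Cfsg.SU 3 F 2 := ⟨⟨Vm, hV1⟩, hmem _ (by
    ext i j; fin_cases i <;> fin_cases j <;>
      simp [Vm, Matrix.mul_apply, Fin.sum_univ_three, hωσ] <;> grobner) hV1⟩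
  refine ⟨W, V, ?_⟩
  set H := Subgroup.closure {W, V}
  have hWH : W ∈ H := Subgroup.subset_closure (Or.inl rfl)
  have hVH : V ∈ H := Subgroup.subset_closure (Or.inr rfl)
  have mval : ∀ a b : Cfsg.SU 3 F 2, (a * b).1.1 = a.1.1 * b.1.1 := fun a b => rfl
  have eWW : (W * W).1.1 = !![1, 0, 0; 0, 0, 1; 0, 1, 0] := by
    show Wm * Wm = _
    ext i j; fin_cases i <;> fin_cases j <;>
      simp [Wm, Matrix.mul_apply, Fin.sum_univ_three] <;> grobner
  have eVV : (V * V).1.1 = !![1, 0, 0; 0, 0, ω ^ 2; 0, ω, 0] := by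
    show Vm * Vm = _
    ext i j; fin_cases i <;> fin_cases j <;>
      simp [Vm, Matrix.mul_apply, Fin.sum_univ_three] <;> grobner
  have eD12 : ((W * W) * (V * V)).1.1 = !![1, 0, 0; 0, ω, 0; 0, 0, ω ^ 2] := by
    rw [mval, eWW, eVV]
    ext i j; fin_cases i <;> fin_cases j <;> simp [Matrix.mul_apply, Fin.sum_univ_three]
  have eP01 : (W * (V * V) * (W * (W * W))).1.1 = !![0, 1, 0; 1, 0, 0; 0, 0, 1] := by
    show Wm * (V * V).1.1 * (Wm * (W * W).1.1) = _
    rw [eVV, eWW]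
    ext i j; fin_cases i <;> fin_cases j <;>
      simp [Wm, Matrix.mul_apply, Fin.sum_univ_three] <;> grobner
  set P := W * (V * V) * (W * (W * W)) with hP
  set R := W * W with hR
  set D := R * (V * V) with hDdef
  have hPH : P ∈ H := H.mul_mem (H.mul_mem hWH (H.mul_mem hVH hVH)) (H.mul_mem hWH (H.mul_mem hWH hWH))
  have hRH : R ∈ H := H.mul_mem hWH hWH
  have hDH : D ∈ H := H.mul_mem hRH (H.mul_mem hVH hVH)
  set E := R * P * D * (P * R) with hEdef
  have hEH : E ∈ H := H.mul_mem (H.mul_mem (H.mul_mem hRH hPH) hDH) (H.mul_mem hPH hRH)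
  have eE : E.1.1 = !![ω, 0, 0; 0, ω ^ 2, 0; 0, 0, 1] := by
    show R.1.1 * P.1.1 * D.1.1 * (P.1.1 * R.1.1) = _
    rw [eP01, eWW, eD12]
    ext i j; fin_cases i <;> fin_cases j <;> simp [Matrix.mul_apply, Fin.sum_univ_three]
  have unit3 : ∀ x : F, x ≠ 0 → x = 1 ∨ x = ω ∨ x = ω ^ 2 := by
    intro x hx
    have h3 : x ^ 3 = 1 := by
      have := norm_four hF h hx
      rwa [h.pow, ← pow_succ'] at this
    have : (x - 1) * ((x - ω) * (x - ω ^ 2)) = 0 := by grobner
    rcases mul_eq_zero.1 this with e | e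
    · exact Or.inl (sub_eq_zero.1 e)
    rcases mul_eq_zero.1 e with e | e
    · exact Or.inr (Or.inl (sub_eq_zero.1 e))
    · exact Or.inr (Or.inr (sub_eq_zero.1 e))
  -- the diagonal elements
  have hdiag : ∀ a b c : F, a * b * c = 1 →
      ∃ g ∈ H, g.1.1 = !![a, 0, 0; 0, b, 0; 0, 0, c] := by
    intro a b c habc
    have ha : a ≠ 0 := fun e => by simp [e] at habc
    have hc : c ≠ 0 := fun e => by simp [e] at habc
    have h1 : ∀ a : F, a ≠ 0 → ∃ g ∈ H, g.1.1 = !![a, 0, 0; 0, a⁻¹, 0; 0, 0, 1] := by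
      intro a ha
      rcases unit3 a ha with e | e | e <;> rw [e]
      · refine ⟨1, H.one_mem, ?_⟩
        show (1 : Matrix (Fin 3) (Fin 3) F) = _
        ext i j; fin_cases i <;> fin_cases j <;> simp
      · refine ⟨E, hEH, ?_⟩
        rw [eE, show ω⁻¹ = ω ^ 2 from inv_eq_of_mul_eq_one_right (by linear_combination hω3)]
      · refine ⟨E * E, H.mul_mem hEH hEH, ?_⟩
        rw [mval, eE, show (ω ^ 2)⁻¹ = ω from inv_eq_of_mul_eq_one_right (by linear_combination hω3)]
        ext i j; fin_cases i <;> fin_cases j <;>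
          simp [Matrix.mul_apply, Fin.sum_univ_three] <;> grobner
    have h2' : ∀ c : F, c ≠ 0 → ∃ g ∈ H, g.1.1 = !![1, 0, 0; 0, c⁻¹, 0; 0, 0, c] := by
      intro c hc
      rcases unit3 c hc with e | e | e <;> rw [e]
      · refine ⟨1, H.one_mem, ?_⟩
        show (1 : Matrix (Fin 3) (Fin 3) F) = _
        ext i j; fin_cases i <;> fin_cases j <;> simp
      · refine ⟨D * D, H.mul_mem hDH hDH, ?_⟩
        rw [mval, eD12, show ω⁻¹ = ω ^ 2 from inv_eq_of_mul_eq_one_right (by linear_combination hω3)]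
        ext i j; fin_cases i <;> fin_cases j <;>
          simp [Matrix.mul_apply, Fin.sum_univ_three] <;> grobner
      · refine ⟨D, hDH, ?_⟩
        rw [eD12, show (ω ^ 2)⁻¹ = ω from inv_eq_of_mul_eq_one_right (by linear_combination hω3)]
    obtain ⟨g1, m1, e1⟩ := h1 a ha
    obtain ⟨g2, m2, e2⟩ := h2' c hc
    refine ⟨g1 * g2, H.mul_mem m1 m2, ?_⟩
    have hb : a⁻¹ * c⁻¹ = b := by field_simp; linear_combination -habc
    rw [mval, e1, e2]
    ext i j; fin_cases i <;> fin_cases j <;> simp [Matrix.mul_apply, Fin.sum_univ_three, hb]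
  -- the first plane
  have h01 : ∀ M, embF h f01 M ∈ H := by
    intro M
    set g := embF h f01 M with hg
    have g00 := congrFun (embF01_apply h M (Pi.single 0 1)) 0
    have g10 := congrFun (embF01_apply h M (Pi.single 0 1)) 1
    have g01 := congrFun (embF01_apply h M (Pi.single 1 1)) 0
    have g11 := congrFun (embF01_apply h M (Pi.single 1 1)) 1
    have gmat : g.1.1 = !![M.1.1 0 0, M.1.1 0 1, 0; M.1.1 1 0, M.1.1 1 1, 0; 0, 0, 1] := by
      ext i j
      have e := congrFun (embF01_apply h M (Pi.single j 1)) i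
      rw [← hg, Matrix.mulVec_single_one, Matrix.col_apply] at e
      rw [e]
      fin_cases i <;> fin_cases j <;> simp
    have hcol := su_uh h M (Pi.single 0 (1 : F)) (Pi.single 0 1)
    rw [uh, uh] at hcol
    simp [dotProduct, Fin.sum_univ_two, Matrix.mulVec_single_one] at hcol
    have hoff := su_uh h M (Pi.single 0 (1 : F)) (Pi.single 1 1)
    rw [uh, uh] at hoff
    simp [dotProduct, Fin.sum_univ_two, Matrix.mulVec_single_one] at hoff
    have hdet := M.1.2
    rw [Matrix.det_fin_two] at hdet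
    rcases eq_or_ne (M.1.1 1 0) 0 with h10 | h10
    · rw [h10] at hdet hcol hoff
      simp at hdet hcol hoff
      have hb : M.1.1 0 1 = 0 := by
        rcases hoff with e | e
        · rw [e] at hdet; simp at hdet
        · simpa using e
      obtain ⟨t, htH, et⟩ := hdiag _ _ 1 (by rw [mul_one]; exact hdet)
      have : g = t := Subtype.ext (Subtype.ext (by rw [gmat, et, h10, hb]))
      rw [this]; exact htH
    · have h00 : M.1.1 0 0 = 0 := by
        by_contra h00
        rw [norm_four hF h h00, norm_four hF h h10] at hcol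
        exact one_ne_zero (by linear_combination hcol)
      rw [h00] at hdet hcol hoff
      simp at hdet hcol hoff
      have hb : M.1.1 1 1 = 0 := by
        rcases hoff with e | e
        · exact absurd e h10
        · simpa using e
      obtain ⟨t, htH, et⟩ := hdiag (M.1.1 0 1) (M.1.1 1 0) 1 (by linear_combination hdet + (M.1.1 0 1 * M.1.1 1 0) * h2)
      have : g = t * P := Subtype.ext (Subtype.ext (by
        rw [gmat, mval, et, eP01, h00, hb]
        ext i j; fin_cases i <;> fin_cases j <;> simp [Matrix.mul_apply, Fin.sum_univ_three]))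
      rw [this]; exact H.mul_mem htH hPH
  refine top_of_transitive h H h01 fun y hy => ?_
  have inv_to : ∀ g ∈ H, g.1.1 *ᵥ Pi.single 2 1 = y → ∃ g ∈ H, g.1.1 *ᵥ y = Pi.single 2 1 :=
    fun g hg e => ⟨g⁻¹, H.inv_mem hg, by rw [← e, su_inv_mulVec]⟩
  rw [uh_three] at hy
  by_cases z0 : y 0 = 0 <;> by_cases z1 : y 1 = 0 <;> by_cases z2 : y 2 = 0
  all_goals (try rw [norm_four hF h z0] at hy)
  all_goals (try rw [norm_four hF h z1] at hy)
  all_goals (try rw [norm_four hF h z2] at hy)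
  all_goals (try rw [z0] at hy)
  all_goals (try rw [z1] at hy)
  all_goals (try rw [z2] at hy)
  all_goals simp at hy
  · obtain ⟨g, hg, e⟩ := hdiag 1 (y 2)⁻¹ (y 2) (by field_simp)
    refine inv_to g hg ?_
    rw [e]; funext i; fin_cases i <;> simp [z0, z1, Matrix.mulVec_single_one]
  · obtain ⟨g, hg, e⟩ := hdiag 1 (y 1) (y 1)⁻¹ (by field_simp)
    refine inv_to (g * R) (H.mul_mem hg hRH) ?_
    rw [su_mul_mulVec, eWW, e]
    funext i; fin_cases i <;> simp [z0, z2, Matrix.mulVec, dotProduct, Fin.sum_univ_three]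
  · obtain ⟨g, hg, e⟩ := hdiag (y 0) 1 (y 0)⁻¹ (by field_simp)
    refine inv_to (g * (P * R)) (H.mul_mem hg (H.mul_mem hPH hRH)) ?_
    rw [su_mul_mulVec, su_mul_mulVec, eWW, eP01, e]
    funext i; fin_cases i <;> simp [z1, z2, Matrix.mulVec, dotProduct, Fin.sum_univ_three]
  · -- three nonzero coordinates
    have hp : y 0 * y 1 * y 2 ≠ 0 := mul_ne_zero (mul_ne_zero z0 z1) z2
    obtain ⟨v, v0, v1, v2, hvv, hg⟩ : ∃ (v : Cfsg.SU 3 F 2) (v0 v1 v2 : F),
        y 0 * y 1 * y 2 = v0 * v1 * v2 ∧ v ∈ H ∧ v.1.1 *ᵥ Pi.single 2 1 = ![v0, v1, v2] := by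
      rcases unit3 _ hp with e | e | e
      · refine ⟨W, 1, ω ^ 2, ω, by rw [e]; linear_combination -hω3, hWH, ?_⟩
        funext i; fin_cases i <;> simp [W, Wm, Matrix.mulVec_single_one]
      · refine ⟨V, ω ^ 2, ω, ω, by rw [e]; linear_combination (-ω) * hω3, hVH, ?_⟩
        funext i; fin_cases i <;> simp [V, Vm, Matrix.mulVec_single_one]
      · refine ⟨W * V, ω ^ 2, 1, 1, by rw [e]; ring, H.mul_mem hWH hVH, ?_⟩
        rw [mval]
        funext i
        fin_cases i <;>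
          simp [W, V, Wm, Vm, Matrix.mulVec_single_one, Matrix.mul_apply, Fin.sum_univ_three] <;>
          grobner
    obtain ⟨hv, hve⟩ := hg
    have hv0 : v0 * v1 * v2 ≠ 0 := hvv ▸ hp
    obtain ⟨t, htH, et⟩ := hdiag (y 0 / v0) (y 1 / v1) (y 2 / v2) (by
      rw [div_mul_div_comm, div_mul_div_comm, hvv, div_self hv0])
    refine inv_to (t * v) (H.mul_mem htH hv) ?_
    rw [su_mul_mulVec, hve, et]
    simp only [ne_eq, mul_eq_zero, not_or] at hv0
    funext i
    fin_cases i <;> simp [Matrix.mulVec, dotProduct, Fin.sum_univ_three, hv0.1.1, hv0.1.2, hv0.2]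

end FieldFour

end CfsgLib.Pres.SU.Chain
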