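import Cfsg.Agent.Lib.Pres.SU.Chain.Amalg

/-!
The amalgam is `SU n`: one coordinate at a time.
-/

set_option autoImplicit false

namespace CfsgLib.Pres.SU.Chain

open Matrix Equiv CfsgLib.Classical CfsgLib.Classical.Unitary

variable {F : Type*} [Field F] {σ : F →+* F} {q k n : ℕ}

theorem colMat_single (f : Fin k ↪ Fin n) (a : Fin k) (s : F) :
    colMat F f *ᵥ Pi.single a s = Pi.single (f a) s := funext fun j => by
  by_cases hj : ∃ l, f l = j
  · obtain ⟨l, rfl⟩ := hj
    rw [colMat_mulVec, Pi.single_apply, Pi.single_apply]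
    simp [f.injective.eq_iff]
  · push Not at hj
    rw [colMat_mulVec_off f _ hj, Pi.single_apply, if_neg fun e => hj a e.symm]

theorem su_single (g : Cfsg.SU n F q) (j : Fin n) (s : F) :
    g.1.1 *ᵥ Pi.single j s = s • (g.1.1 *ᵥ Pi.single j 1) := by
  rw [← mulVec_smul]
  congr 1
  funext l
  rcases eq_or_ne l j with rfl | hl <;> simp [*]

/-- An element fixing some coordinates commutes with the group on these coordinates. -/
theorem commute_embF (h : UFrob σ q) (f : Fin k ↪ Fin n) (g : Cfsg.SU n F q)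
    (hg : ∀ i, g.1.1 *ᵥ Pi.single (f i) 1 = Pi.single (f i) 1) (M : Cfsg.SU k F q) :
    g * embF h f M * g⁻¹ = embF h f M := by
  have hgi : ∀ i, (g⁻¹).1.1 *ᵥ Pi.single (f i) 1 = Pi.single (f i) 1 := fun i => by
    conv_lhs => rw [← hg i]
    rw [su_inv_mulVec]
  refine su_ext fun x => ?_
  rw [← Finset.univ_sum_single x, mulVec_sum, mulVec_sum]
  refine Finset.sum_congr rfl fun j _ => ?_
  rw [su_single _ j, su_single (embF h f M) j]
  congr 1
  rw [su_mul_mulVec, su_mul_mulVec]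
  by_cases hj : ∃ i, f i = j
  · obtain ⟨i, rfl⟩ := hj
    rw [hgi, embF_single]
    have hfix : ∀ a, g.1.1 *ᵥ (colMat F f *ᵥ a) = colMat F f *ᵥ a := fun a => by
      rw [← Finset.univ_sum_single a, mulVec_sum, mulVec_sum]
      refine Finset.sum_congr rfl fun l _ => ?_
      rw [colMat_single, su_single, hg]
      funext t
      rcases eq_or_ne t (f l) with rfl | ht <;> simp [*]
    exact hfix _
  · push Not at hj
    have hv : ((g⁻¹).1.1 *ᵥ Pi.single j 1) ∘ f = 0 := funext fun i => by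
      have := su_uh h g⁻¹ (Pi.single j (1 : F)) (Pi.single (f i) 1)
      rw [hgi, uh_single_right, uh_single_right] at this
      simpa [hj i] using this
    rw [embF, frameHom_fix h _ _ _ (by rw [colMat_transpose]; exact hv), su_mulVec_inv]
    exact (embF_fix h f M hj 1).symm

namespace Amalg

variable {h : UFrob σ q} {hn : 5 ≤ n} {X : Type*} [Group X] (A : Amalg h hn X)

theorem k_sq {k : Cfsg.SU 3 F q} (hk : k.1.1 = !![0, 1, 0; 1, 0, 0; 0, 0, -1]) : k * k = 1 := by
  refine Subtype.ext (Subtype.ext ?_)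
  show k.1.1 * k.1.1 = 1
  rw [hk]
  ext i j
  fin_cases i <;> fin_cases j <;> simp [Matrix.mul_apply, Fin.sum_univ_three]

theorem k_cols {k : Cfsg.SU 3 F q} (hk : k.1.1 = !![0, 1, 0; 1, 0, 0; 0, 0, -1]) :
    k.1.1 *ᵥ Pi.single 0 1 = Pi.single 1 1 ∧ k.1.1 *ᵥ Pi.single 1 1 = Pi.single 0 1 ∧
      k.1.1 *ᵥ Pi.single 2 1 = Pi.single 2 (-1) := by
  refine ⟨?_, ?_, ?_⟩ <;>
    (rw [hk]; funext i; fin_cases i <;> simp [Matrix.mulVec, dotProduct, Fin.sum_univ_three])

theorem π_Kk {k : Cfsg.SU 3 F q} (hk : k.1.1 = !![0, 1, 0; 1, 0, 0; 0, 0, -1]) {i : Fin n}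
    (hi : 2 ≤ i.val) :
    (A.π (A.K i k)).1.1 *ᵥ Pi.single (p0 hn) 1 = Pi.single (p1 hn) 1 ∧
      (A.π (A.K i k)).1.1 *ᵥ Pi.single (p1 hn) 1 = Pi.single (p0 hn) 1 ∧
      (A.π (A.K i k)).1.1 *ᵥ Pi.single i 1 = Pi.single i (-1) ∧
      ∀ j : Fin n, 2 ≤ j.val → j ≠ i →
        (A.π (A.K i k)).1.1 *ᵥ Pi.single j 1 = Pi.single j 1 := by
  obtain ⟨c0, c1, c2⟩ := k_cols hk
  have h2 : fI hn i 2 = i := gP_apply_two hi
  have d0 : ∀ a b : Fin 3, k.1.1 *ᵥ Pi.single a 1 = Pi.single b 1 →
      (A.π (A.K i k)).1.1 *ᵥ Pi.single (fI hn i a) 1 = Pi.single (fI hn i b) 1 := fun a b e => by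
    rw [A.π_K, embF_single, e, colMat_single]
  have q0 := d0 0 1 c0
  have q1 := d0 1 0 c1
  have q2 : (A.π (A.K i k)).1.1 *ᵥ Pi.single i 1 = Pi.single i (-1) := by
    have e : (A.π (A.K i k)).1.1 *ᵥ Pi.single (fI hn i 2) 1 = Pi.single (fI hn i 2) (-1) := by
      rw [A.π_K, embF_single, c2, colMat_single]
    rwa [h2] at e
  have e0 : fI hn i 0 = ((gP hn i : alternatingGroup (Fin n)) : Perm (Fin n)) (p0 hn) := rfl
  have e1 : fI hn i 1 = ((gP hn i : alternatingGroup (Fin n)) : Perm (Fin n)) (p1 hn) := rfl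
  have hrest : ∀ j : Fin n, 2 ≤ j.val → j ≠ i →
      (A.π (A.K i k)).1.1 *ᵥ Pi.single j 1 = Pi.single j 1 := fun j hj hji => by
    rw [A.π_K]
    refine embF_fix h _ _ (fun l e => ?_) 1
    rcases gP_first (hn := hn) i hi with ⟨a0, a1⟩ | ⟨a0, a1⟩ <;> fin_cases l
    all_goals first
      | exact hji (e.symm.trans h2)
      | (have := e.symm.trans (e0.trans a0); simp [this, p0, p1] at hj)
      | (have := e.symm.trans (e1.trans a1); simp [this, p0, p1] at hj)
  rcases gP_first (hn := hn) i hi with ⟨a0, a1⟩ | ⟨a0, a1⟩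
  · rw [e0, e1, a0, a1] at q0 q1
    exact ⟨q0, q1, q2, hrest⟩
  · rw [e0, e1, a0, a1] at q0 q1
    exact ⟨q1, q0, q2, hrest⟩

/-- The element moving the last coordinate to the previous one. -/
def tE (k : Cfsg.SU 3 F q) (c d : Fin n) : X := A.ψ (dsw hn c d) * A.K c k

theorem π_tE {k : Cfsg.SU 3 F q} (hk : k.1.1 = !![0, 1, 0; 1, 0, 0; 0, 0, -1]) {c d : Fin n}
    (hc : 2 ≤ c.val) (hd : 2 ≤ d.val) (hcd : c ≠ d) :
    (A.π (A.tE k c d)).1.1 *ᵥ Pi.single d 1 = Pi.single c 1 ∧
      (A.π (A.tE k c d)).1.1 *ᵥ Pi.single c 1 = Pi.single d (-1) ∧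
      ∀ j : Fin n, j ≠ c → j ≠ d → (A.π (A.tE k c d)).1.1 *ᵥ Pi.single j 1 = Pi.single j 1 := by
  obtain ⟨b0, b1, bc, br⟩ := A.π_Kk hk hc
  refine ⟨?_, ?_, fun j hjc hjd => ?_⟩ <;> rw [tE, map_mul, A.πψ, su_mul_mulVec]
  · rw [br d hd hcd.symm, permSU_single, dsw_right hc hd hcd]
  · rw [bc, permSU_single, dsw_left hc hd hcd]
  · by_cases h0 : j = p0 hn
    · subst h0; rw [b0, permSU_single, dsw_p1 hc hd hcd]
    by_cases h1 : j = p1 hn
    · subst h1; rw [b1, permSU_single, dsw_p0 hc hd hcd]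
    have hj : 2 ≤ j.val := by simp only [p0, p1, Fin.ext_iff] at h0 h1; omega
    rw [br j hj hjc, permSU_single, dsw_other hc hd hcd hj hjc hjd]

/-- The condition for the field of four elements in dimension six. -/
def Square (k : Cfsg.SU 3 F q) : Prop :=
  q = 2 → ∀ h6 : 6 ≤ n, ∀ δ : F, δ * σ δ = 1 →
    ∃ x1 ∈ A.Z 5, ∃ x2 ∈ A.Z 5, ∃ x1' ∈ A.Z 5, ∃ x2' ∈ A.Z 5, ∃ g : Cfsg.SU 6 F q,
      (Pi.single ⟨5, by omega⟩ 1 : Fin n → F) =
        colMat F (low h6) *ᵥ (g.1.1 *ᵥ Pi.single 0 δ) ∧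
      (A.π (x1 * A.tE k ⟨4, by omega⟩ ⟨5, by omega⟩)).1.1 *ᵥ Pi.single ⟨5, by omega⟩ 1 =
        colMat F (low h6) *ᵥ (g.1.1 *ᵥ Pi.single 1 1) ∧
      (A.π (x1 * A.tE k ⟨4, by omega⟩ ⟨5, by omega⟩ * x2 * A.tE k ⟨4, by omega⟩ ⟨5, by omega⟩)).1.1
          *ᵥ Pi.single ⟨5, by omega⟩ 1 =
        colMat F (low h6) *ᵥ (g.1.1 *ᵥ (Pi.single 0 δ + (Pi.single 2 1 + Pi.single 3 1))) ∧
      (A.π (x1' * A.tE k ⟨4, by omega⟩ ⟨5, by omega⟩)).1.1 *ᵥ Pi.single ⟨5, by omega⟩ 1 =
        colMat F (low h6) *ᵥ (g.1.1 *ᵥ (Pi.single 1 1 + (Pi.single 4 1 + Pi.single 5 1))) ∧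
      (x1' * A.tE k ⟨4, by omega⟩ ⟨5, by omega⟩ * x2' * A.tE k ⟨4, by omega⟩ ⟨5, by omega⟩)⁻¹ *
        (x1 * A.tE k ⟨4, by omega⟩ ⟨5, by omega⟩ * x2 * A.tE k ⟨4, by omega⟩ ⟨5, by omega⟩) ∈ A.Z 5

theorem colMat_injective (f : Fin k ↪ Fin n) {a b : Fin k → F}
    (e : colMat F f *ᵥ a = colMat F f *ᵥ b) : a = b := funext fun i => by
  rw [← colMat_mulVec f a i, e, colMat_mulVec]

set_option maxHeartbeats 1000000 in
theorem step [Finite F] (hF : Nat.card F = q ^ 2) {k : Cfsg.SU 3 F q}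
    (hk : k.1.1 = !![0, 1, 0; 1, 0, 0; 0, 0, -1]) (hsq : A.Square k) {m : ℕ} (hm : 4 ≤ m)
    (hmn : m + 1 ≤ n) (ih : ∀ x ∈ A.Z m, A.π x = 1 → x = 1) :
    ∀ x ∈ A.Z (m + 1), A.π x = 1 → x = 1 := by
  have eqH : ∀ x ∈ A.Z m, ∀ y ∈ A.Z m, A.π x = A.π y → x = y := fun x hx y hy e => by
    have := ih (x * y⁻¹) (mul_mem hx (inv_mem hy)) (by rw [map_mul, map_inv, e, mul_inv_cancel])
    exact mul_inv_eq_one.1 this
  set E := embF h (low hmn) with hE
  obtain ⟨πY, hπY⟩ : ∃ πY : A.Z (m + 1) →* Cfsg.SU (m + 1) F q, ∀ y, E (πY y) = A.π y.1 := by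
    refine ⟨(MonoidHom.ofInjective (embF_injective h (low hmn))).symm.toMonoidHom.comp
      ((A.π.comp (A.Z (m + 1)).subtype).codRestrict _ fun y => A.π_Z (by omega) hmn y.2), fun y => ?_⟩
    exact MonoidHom.apply_ofInjective_symm (embF_injective h (low hmn)) _
  have trans : ∀ (y : A.Z (m + 1)) (j : Fin (m + 1)) (v : Fin (m + 1) → F),
      (A.π y.1).1.1 *ᵥ Pi.single (low hmn j) 1 = colMat F (low hmn) *ᵥ v ↔
        (πY y).1.1 *ᵥ Pi.single j 1 = v := by
    intro y j v
    rw [← hπY, hE, embF_single]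
    exact ⟨fun e => colMat_injective _ e, fun e => by rw [e]⟩
  let cN : Fin n := ⟨m - 1, by omega⟩
  let dN : Fin n := ⟨m, by omega⟩
  let cM : Fin (m + 1) := ⟨m - 1, by omega⟩
  let dM : Fin (m + 1) := ⟨m, by omega⟩
  have hcN : 2 ≤ cN.val := by simp [cN]; omega
  have hdN : 2 ≤ dN.val := by simp [dN]; omega
  have hcd : cN ≠ dN := by simp [cN, dN, Fin.ext_iff]; omega
  have lc : low hmn cM = cN := rfl
  have ld : low hmn dM = dN := rfl
  let d : One σ (m + 1) := ⟨Pi.single dM 1, by simp [uh_single_left]⟩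
  let c : One σ (m + 1) := ⟨Pi.single cM 1, by simp [uh_single_left]⟩
  have hsm : A.ψ (dsw hn cN dN) ∈ A.Z (m + 1) :=
    A.dsw_mem hcN (by simp [cN, dN]; omega) (by simp [dN])
  have hKc : A.K cN k ∈ A.Z m := A.K_mem hcN (by simp [cN]; omega) k
  let tY : A.Z (m + 1) := ⟨A.tE k cN dN, mul_mem hsm (A.Z_mono (Nat.le_succ m) hKc)⟩
  obtain ⟨td, tc, trest⟩ := A.π_tE hk hcN hdN hcd
  let HY : Subgroup (A.Z (m + 1)) := (A.Z m).subgroupOf (A.Z (m + 1))
  have hk2 : A.K cN k * A.K cN k = 1 := by rw [← map_mul, k_sq hk, map_one]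
  have hs2 : A.ψ (dsw hn cN dN) * A.ψ (dsw hn cN dN) = 1 := by
    rw [← map_mul, dsw_sq hcN hdN, map_one]
  have D : StepData σ πY HY tY d c := by
    refine ⟨?_, fun x hx e => ?_, fun x hx => ?_, fun g hg => ?_, ?_, ?_, ?_, fun x hx e => ?_, ?_, ?_⟩
    · rw [eq_top_iff]
      intro y _
      have key : A.Z (m + 1) ≤ (Subgroup.closure ((HY : Set (A.Z (m + 1))) ∪ {tY})).map
          (A.Z (m + 1)).subtype := by
        conv_lhs => rw [Z]
        rw [Subgroup.closure_le]
        rintro _ (⟨x, rfl⟩ | ⟨a, b, ha, hb, hbm, rfl⟩)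
        · exact ⟨⟨A.ι x, A.ι_mem _ x⟩, Subgroup.subset_closure (Or.inl (A.ι_mem m x)), rfl⟩
        · rcases Nat.lt_or_ge b.val m with hlt | hge
          · exact ⟨⟨_, A.dsw_mem ha hb hbm⟩, Subgroup.subset_closure (Or.inl (A.dsw_mem ha hb hlt)),
              rfl⟩
          · have ea : a = cN := Fin.ext (by simp [cN]; omega)
            have eb : b = dN := Fin.ext (by simp [dN]; omega)
            subst ea eb
            refine ⟨tY * ⟨A.K cN k, A.Z_mono (Nat.le_succ m) hKc⟩⁻¹, mul_mem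
              (Subgroup.subset_closure (Or.inr rfl))
              (inv_mem (Subgroup.subset_closure (Or.inl hKc))), ?_⟩
            show A.tE k cN dN * (A.K cN k)⁻¹ = _
            rw [tE, mul_inv_cancel_right]
      obtain ⟨z, hz, e⟩ := key y.2
      rwa [← show z = y from Subtype.ext e]
    · exact Subtype.ext (ih x.1 hx (by rw [← hπY, e, map_one]))
    · refine (trans x dM _).1 ?_
      obtain ⟨M, hM⟩ := A.π_Z hm (by omega) (show x.1 ∈ A.Z m from hx)
      rw [← hM, ld, colMat_single, ld]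
      exact embF_fix h _ M (fun i => low_ne (by simp [dN]) i) 1
    · obtain ⟨M, hM⟩ := mem_range_embF h (low (Nat.le_succ m)) g fun j hj => by
        have : j = dM := by
          by_contra hne
          refine hj ⟨j.val, ?_⟩ (Fin.ext rfl)
          simp [dM, Fin.ext_iff] at hne
          omega
        rw [this]; exact hg
      obtain ⟨x, hx, e⟩ := A.π_Z_onto hF (m := m) (by omega) (by omega) M
      have hxm := A.closure_K_le hx
      refine ⟨⟨x, A.Z_mono (Nat.le_succ m) hxm⟩, hxm, embF_injective h (low hmn) ?_⟩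
      show E _ = E g
      rw [hπY, e, ← hM, hE, embF_comp, low_trans]
    · show uh σ (Pi.single dM 1) (Pi.single cM 1) = 0
      rw [uh_single_left, Pi.single_eq_of_ne]
      · simp
      · intro e; have := congrArg Fin.val e; simp [dM, cM] at this; omega
    · show (πY tY).1.1 *ᵥ Pi.single dM 1 = Pi.single cM 1
      exact (trans tY dM _).1 (by rw [colMat_single, lc, ld]; exact td)
    · show (πY tY).1.1 *ᵥ Pi.single cM 1 = -Pi.single dM 1
      refine (trans tY cM _).1 ?_
      rw [← Pi.single_neg, colMat_single, lc, ld]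
      exact tc
    · -- the stabiliser of the second point
      have hxc : (A.π x.1).1.1 *ᵥ Pi.single cN 1 = Pi.single cN 1 := by
        have e2 := (trans x cM _).2 e
        rw [colMat_single, lc] at e2
        exact e2
      obtain ⟨M, hM⟩ := A.π_Z hm (by omega) (show x.1 ∈ A.Z m from hx)
      obtain ⟨M', hM'⟩ := mem_range_embF h (low (show m - 1 ≤ n by omega)) (A.π x.1) fun j hj => by
        have hjm : m - 1 ≤ j.val := by
          by_contra hlt
          exact hj ⟨j.val, by omega⟩ (Fin.ext rfl)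
        rcases eq_or_lt_of_le hjm with hj' | hj'
        · rw [show j = cN from Fin.ext hj'.symm]; exact hxc
        · rw [← hM]
          exact embF_fix h _ M (fun i => low_ne (by omega) i) 1
      obtain ⟨y, hy, ey⟩ := A.π_Z_onto hF (m := m - 1) (by omega) (by omega) M'
      have hxy : x.1 = y := eqH _ hx _ (A.Z_mono (Nat.sub_le m 1) (A.closure_K_le hy))
        (by rw [ey, hM']; rfl)
      refine Subtype.ext ?_
      show A.tE k cN dN * x.1 = x.1 * A.tE k cN dN
      rw [hxy]
      refine Subgroup.mem_centralizer_iff.1 ((Subgroup.closure_le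
        (Subgroup.centralizer {A.tE k cN dN})).2 ?_ hy) (A.tE k cN dN) rfl
      rintro _ ⟨i, hi, him, z, rfl⟩
      rw [SetLike.mem_coe, Subgroup.mem_centralizer_iff]
      intro t' ht'
      rw [Set.mem_singleton_iff] at ht'
      subst ht'
      have hic : i ≠ cN := fun e => by simp [e, cN] at him
      have hid : i ≠ dN := fun e => by simp [e, dN] at him; omega
      obtain ⟨b0, b1, bc, br⟩ := A.π_Kk hk hcN
      -- the inner conjugation
      have hin : A.K cN k * A.K i z * (A.K cN k)⁻¹ ∈ (A.K i).range := by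
        obtain ⟨w, hw⟩ := mem_range_embF h (fI hn i) (A.π (A.K cN k * A.K i z * (A.K cN k)⁻¹))
          fun j hj => by
            have hKfix : (A.π (A.K i z)).1.1 *ᵥ Pi.single j 1 = Pi.single j 1 := by
              rw [A.π_K]; exact embF_fix h _ _ hj 1
            have hj2 : 2 ≤ j.val := by
              by_contra hlt
              rcases gP_first (hn := hn) i hi with ⟨a0, a1⟩ | ⟨a0, a1⟩
              all_goals
                rcases (show j = p0 hn ∨ j = p1 hn by simp only [p0, p1, Fin.ext_iff]; omega) with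
                  rfl | rfl
              exacts [hj 0 a0, hj 1 a1, hj 1 a1, hj 0 a0]
            have e1 : (A.π (A.K cN k)).1.1 *ᵥ ((A.π (A.K i z)).1.1 *ᵥ
                (((A.π (A.K cN k))⁻¹).1.1 *ᵥ Pi.single j 1)) = Pi.single j 1 := by
              rcases eq_or_ne j cN with rfl | hjc
              · have : ((A.π (A.K cN k))⁻¹).1.1 *ᵥ Pi.single cN 1 = -Pi.single cN 1 := by
                  conv_lhs => rw [← neg_neg (Pi.single cN (1 : F) : Fin n → F), ← Pi.single_neg,
                    ← bc]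
                  rw [mulVec_neg, su_inv_mulVec]
                rw [this, mulVec_neg, hKfix, mulVec_neg, bc, ← Pi.single_neg, neg_neg]
              · have : ((A.π (A.K cN k))⁻¹).1.1 *ᵥ Pi.single j 1 = Pi.single j 1 := by
                  conv_lhs => rw [← br j hj2 hjc]
                  rw [su_inv_mulVec]
                rw [this, hKfix, br j hj2 hjc]
            rw [map_mul, map_mul, map_inv, su_mul_mulVec, su_mul_mulVec]
            exact e1
        refine ⟨w, (eqH _ ?_ _ (A.K_mem hi (by omega) w) ?_).symm⟩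
        · exact mul_mem (mul_mem hKc (A.K_mem hi (by omega) z)) (inv_mem hKc)
        · rw [A.π_K, hw]
      obtain ⟨w, hw⟩ := hin
      have hout : A.tE k cN dN * A.K i z * (A.tE k cN dN)⁻¹ ∈ (A.K i).range := by
        rw [tE, show A.ψ (dsw hn cN dN) * A.K cN k * A.K i z * (A.ψ (dsw hn cN dN) * A.K cN k)⁻¹ =
          A.ψ (dsw hn cN dN) * (A.K cN k * A.K i z * (A.K cN k)⁻¹) * (A.ψ (dsw hn cN dN))⁻¹ by group,
          ← hw]
        exact A.conj_dsw hcN hdN hcd hi hi (dsw_other hcN hdN hcd hi hic hid) w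
      have heq := A.eq_of_π hout ⟨z, rfl⟩ (by
        rw [map_mul, map_mul, map_inv, A.π_K]
        refine commute_embF h _ _ (fun a => trest _ ?_ ?_) z
        all_goals
          intro e
          fin_cases a
        all_goals first
          | exact hic ((gP_apply_two hi).symm.trans e)
          | exact hid ((gP_apply_two hi).symm.trans e)
          | (rcases gP_first (hn := hn) i hi with ⟨a0, a1⟩ | ⟨a0, a1⟩
             all_goals first
               | (have := a0.symm.trans e; simp [p0, p1, cN, dN, Fin.ext_iff] at this; omega)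
               | (have := a1.symm.trans e; simp [p0, p1, cN, dN, Fin.ext_iff] at this; omega)))
      exact (mul_inv_eq_iff_eq_mul.1 heq)
    · obtain ⟨b0, b1, bc, br⟩ := A.π_Kk hk hcN
      refine ⟨⟨A.K cN k, A.Z_mono (Nat.le_succ m) hKc⟩, hKc, ?_, ?_⟩
      · show _ *ᵥ Pi.single cM 1 = -Pi.single cM 1
        refine (trans _ cM _).1 ?_
        rw [← Pi.single_neg, colMat_single, lc]
        exact bc
      · show A.tE k cN dN * A.K cN k * A.tE k cN dN ∈ A.Z m
        rw [tE, mul_assoc (A.ψ (dsw hn cN dN)) (A.K cN k) (A.K cN k), hk2, mul_one, ← mul_assoc, hs2,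
          one_mul]
        exact hKc
    · -- the braid
      let e2 := p2 hn
      have h2c : e2 ≠ cN := by simp [e2, p2, cN, Fin.ext_iff]; omega
      have h2d : e2 ≠ dN := by simp [e2, p2, dN, Fin.ext_iff]; omega
      have he2 : 2 ≤ e2.val := le_rfl
      have hgm : A.ψ (gP hn cN) ∈ A.Z m := A.gP_mem cN hcN (by simp [cN]; omega)
      have ham : A.K e2 k ∈ A.Z m := A.K_mem le_rfl (by simp [e2, p2]; omega) k
      refine ⟨⟨A.ψ (gP hn cN) * A.K e2 k, A.Z_mono (Nat.le_succ m) (mul_mem hgm ham)⟩,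
        mul_mem hgm ham, ?_, ?_⟩
      · obtain ⟨-, -, -, ar⟩ := A.π_Kk hk (i := e2) le_rfl
        have hlow : low hmn (⟨2, by omega⟩ : Fin (m + 1)) = e2 := rfl
        have : (A.π (A.ψ (gP hn cN) * A.K e2 k)).1.1 *ᵥ Pi.single cN 1 = Pi.single e2 1 := by
          rw [map_mul, A.πψ, su_mul_mulVec, ar cN hcN h2c.symm, permSU_single]
          exact congrArg (fun j => Pi.single j (1 : F)) (dsw_right le_rfl hcN h2c)
        have e' := (trans ⟨_, A.Z_mono (Nat.le_succ m) (mul_mem hgm ham)⟩ cM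
          (Pi.single ⟨2, by omega⟩ 1)).1 (by rw [colMat_single, lc, hlow]; exact this)
        show uh σ ((πY ⟨_, _⟩).1.1 *ᵥ Pi.single cM 1) (Pi.single cM 1) = 0
        rw [e', uh_single_left, Pi.single_eq_of_ne]
        · simp
        · intro e; have := congrArg Fin.val e; simp [cM] at this; omega
      show (A.ψ (gP hn cN) * A.K e2 k * A.tE k cN dN)⁻¹ *
        (A.tE k cN dN * (A.ψ (gP hn cN) * A.K e2 k) * A.tE k cN dN) ∈ A.Z m
      rw [tE]
      set s := A.ψ (dsw hn cN dN) with hs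
      set g := A.ψ (gP hn cN) with hg
      set a := A.K e2 k with ha
      set b := A.K cN k with hb
      have hg2 : g * g = 1 := by rw [hg, ← map_mul, gP, dsw_sq le_rfl hcN, map_one]
      have ha2 : a * a = 1 := by rw [ha, ← map_mul, k_sq hk, map_one]
      have hsi : s⁻¹ = s := inv_eq_of_mul_eq_one_right hs2
      have hgi : g⁻¹ = g := inv_eq_of_mul_eq_one_right hg2
      have hai : a⁻¹ = a := inv_eq_of_mul_eq_one_right ha2
      have hbi : b⁻¹ = b := inv_eq_of_mul_eq_one_right hk2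
      obtain ⟨a0, a1, ac, ar⟩ := A.π_Kk hk (i := e2) le_rfl
      obtain ⟨b0, b1, bc, br⟩ := A.π_Kk hk hcN
      have hsa : s * a * s⁻¹ = a := by
        refine A.eq_of_π (A.conj_dsw hcN hdN hcd le_rfl le_rfl
          (dsw_other hcN hdN hcd le_rfl h2c h2d) k) ⟨k, rfl⟩ ?_
        rw [map_mul, map_mul, map_inv, hs, A.πψ]
        refine mul_inv_eq_iff_eq_mul.2 (su_ext fun x => ?_)
        rw [← Finset.univ_sum_single x, mulVec_sum, mulVec_sum]
        refine Finset.sum_congr rfl fun j _ => ?_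
        rw [su_single (permSU h _ * A.π (A.K e2 k)) j, su_single (A.π (A.K e2 k) * _) j,
          su_mul_mulVec, su_mul_mulVec]
        congr 1
        rcases eq_or_ne j (p0 hn) with rfl | h0
        · rw [a0, permSU_single, dsw_p1 hcN hdN hcd, permSU_single, dsw_p0 hcN hdN hcd, a1]
        rcases eq_or_ne j (p1 hn) with rfl | h1
        · rw [a1, permSU_single, dsw_p0 hcN hdN hcd, permSU_single, dsw_p1 hcN hdN hcd, a0]
        have hj : 2 ≤ j.val := by simp only [p0, p1, ne_eq, Fin.ext_iff] at h0 h1; omega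
        rcases eq_or_ne j e2 with rfl | h2
        · rw [ac, permSU_single, dsw_other hcN hdN hcd hj h2c h2d, permSU_single,
            dsw_other hcN hdN hcd hj h2c h2d, ac]
        rw [ar j hj h2, permSU_single]
        rcases eq_or_ne j cN with rfl | h3
        · rw [dsw_left hcN hdN hcd, ar dN hdN h2d.symm]
        rcases eq_or_ne j dN with rfl | h4
        · rw [dsw_right hcN hdN hcd, ar cN hcN h2c.symm]
        rw [dsw_other hcN hdN hcd hj h3 h4, ar j hj h2]
      have hga : g * a * g⁻¹ = b := by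
        rw [hg, ha, show e2 = p2 hn from rfl, A.K_two, hb, A.K_apply]
      have hsgs : s * g * s * g * s = g := by
        have e : dsw hn cN dN * gP hn cN * dsw hn cN dN = dsw hn e2 dN :=
          dsw_braid le_rfl hcN hdN h2c h2d hcd
        have e' : dsw hn e2 dN * gP hn cN * dsw hn cN dN = gP hn cN := by
          refine alt_ext fun j => ?_
          rw [gP, Subgroup.coe_mul, Subgroup.coe_mul, Perm.mul_apply, Perm.mul_apply]
          rcases eq_or_ne j (p0 hn) with rfl | h0
          · rw [dsw_p0 hcN hdN hcd, dsw_p1 le_rfl hcN h2c, dsw_p0 he2 hdN h2d, dsw_p0 le_rfl hcN h2c]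
          rcases eq_or_ne j (p1 hn) with rfl | h1
          · rw [dsw_p1 hcN hdN hcd, dsw_p0 le_rfl hcN h2c, dsw_p1 he2 hdN h2d, dsw_p1 le_rfl hcN h2c]
          have hj : 2 ≤ j.val := by simp only [p0, p1, ne_eq, Fin.ext_iff] at h0 h1; omega
          rcases eq_or_ne j e2 with rfl | h2
          · rw [dsw_other hcN hdN hcd hj h2c h2d, dsw_left le_rfl hcN h2c,
              dsw_other he2 hdN h2d hcN h2c.symm hcd]
          rcases eq_or_ne j cN with rfl | h3
          · rw [dsw_left hcN hdN hcd, dsw_other le_rfl hcN h2c hdN h2d.symm hcd.symm,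
              dsw_right he2 hdN h2d, dsw_right le_rfl hcN h2c]
          rcases eq_or_ne j dN with rfl | h4
          · rw [dsw_right hcN hdN hcd, dsw_right le_rfl hcN h2c, dsw_left he2 hdN h2d,
              dsw_other le_rfl hcN h2c hdN h2d.symm hcd.symm]
          rw [dsw_other hcN hdN hcd hj h3 h4, dsw_other le_rfl hcN h2c hj h2 h3,
            dsw_other he2 hdN h2d hj h2 h4]
        have := congrArg A.ψ e'
        rw [← e, map_mul, map_mul, map_mul, map_mul] at this
        exact this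
      have hbg : b * g = g * a := by rw [← hga]; group
      have key : (g * a * (s * b))⁻¹ * (s * b * (g * a) * (s * b)) = g * a := by
        have h1 : s * a = a * s := mul_inv_eq_iff_eq_mul.1 hsa
        calc (g * a * (s * b))⁻¹ * (s * b * (g * a) * (s * b))
            = b⁻¹ * s⁻¹ * a⁻¹ * g⁻¹ * s * (b * g) * a * s * b := by group
          _ = b * s * a * g * s * g * (a * a) * s * b := by rw [hbi, hsi, hai, hgi, hbg]; group
          _ = b * (s * a) * g * s * g * s * b := by rw [ha2, mul_one]; group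
          _ = b * a * (s * g * s * g * s) * b := by rw [h1]; group
          _ = b * (a * g) * b := by rw [hsgs]; group
          _ = b * (g * b) * b := by
            rw [show a * g = g * b by rw [← hga, ← mul_assoc, ← mul_assoc, hgi, hg2, one_mul]]
          _ = (b * g) * (b * b) := by group
          _ = g * a := by rw [hk2, mul_one, hbg]
      rw [key]
      exact mul_mem hgm ham
  have hbij := D.bijective hF h (by omega) ?_
  · intro x hx e
    have := hbij.1 (a₁ := ⟨x, hx⟩) (a₂ := 1) (by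
      rw [map_one]
      exact embF_injective h (low hmn) (by show E _ = E 1; rw [hπY, map_one]; exact e))
    exact congrArg Subtype.val this
  · intro hq hN6 δ hδ
    obtain rfl : m = 5 := by omega
    obtain ⟨x1, h1, x2, h2, x1', h1', x2', h2', g, ga, gw, gc, gw', hmem⟩ := hsq hq hmn δ hδ
    have m1 := A.Z_mono (Nat.le_succ 5)
    refine ⟨⟨x1, m1 h1⟩, h1, ⟨x2, m1 h2⟩, h2, ⟨x1', m1 h1'⟩, h1', ⟨x2', m1 h2'⟩, h2', g,
      ⟨?_, ?_, ?_, ?_⟩, hmem⟩
    · refine colMat_injective (low hmn) ?_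
      rw [colMat_single]
      exact ga
    · exact (trans _ dM _).1 gw
    · exact (trans _ dM _).1 gc
    · exact (trans _ dM _).1 gw'

theorem bijective [Finite F] (hF : Nat.card F = q ^ 2) {k : Cfsg.SU 3 F q}
    (hk : k.1.1 = !![0, 1, 0; 1, 0, 0; 0, 0, -1]) (hsq : A.Square k) : Function.Bijective A.π := by
  have hbase : ∀ x ∈ A.Z 4, A.π x = 1 → x = 1 := by
    intro x hx e
    have : A.Z 4 ≤ A.ι.range := by
      rw [Z, Subgroup.closure_le]
      rintro _ (⟨y, rfl⟩ | ⟨a, b, ha, hb, hbm, rfl⟩)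
      · exact ⟨y, rfl⟩
      · have hfix : ∀ j : Fin n, 4 ≤ j.val → ((dsw hn a b : alternatingGroup (Fin n)) : Perm _) j = j :=
          fun j hj => dsw_other ha (by omega) (fun e => by subst e; omega) (by omega)
            (fun e => by subst e; omega) (fun e => by subst e; omega)
        obtain ⟨y, hy⟩ := mem_range_embF h (f4 hn) (permSU h (dsw hn a b)) fun j hj => by
          rw [permSU_single, hfix j (by
            by_contra hlt
            exact hj ⟨j.val, by omega⟩ (Fin.ext rfl))]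
        exact ⟨y, (A.agree _ y hfix hy).symm⟩
    obtain ⟨y, rfl⟩ := this hx
    rw [A.πι] at e
    rw [embF_injective h _ (e.trans (map_one _).symm), map_one]
  have hall : ∀ m, 4 ≤ m → m ≤ n → ∀ x ∈ A.Z m, A.π x = 1 → x = 1 := by
    intro m hm
    induction m, hm using Nat.le_induction with
    | base => exact fun _ => hbase
    | succ m hm ih => exact fun hmn => A.step hF hk hsq hm hmn (ih (by omega))
  refine ⟨(injective_iff_map_eq_one _).2 fun x e => hall n (by omega) le_rfl x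
    (by rw [A.Z_top]; trivial) e, fun g => ?_⟩
  obtain ⟨x, -, e⟩ := A.π_Z_onto hF (m := n) (by omega) le_rfl g
  refine ⟨x, e.trans ?_⟩
  refine (embF_ext h _ g (fun v i => rfl) fun v j hj => ?_).symm
  exact absurd (Fin.ext rfl) (hj j)

end Amalg

end CfsgLib.Pres.SU.Chain
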