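import Cfsg.Agent.Lib.Pres.SU.Chain.Amalg
import Cfsg.Agent.Lib.Pres.ShortAlt.Main

/-!
Presentations of alternating groups and generators of point stabilisers.
-/

set_option autoImplicit false

namespace CfsgLib.Pres.SU.Chain

open Equiv CfsgLib.Pres

variable {n : ℕ}

/-- Two generators and seven relations, four in degree five. -/
theorem alt_pres (hn : 3 ≤ n) :
    ∃ (f : Fin 2 → alternatingGroup (Fin n)) (L : List (FreeGroup (Fin 2))),
      L.length ≤ 7 ∧ (n = 5 → L.length ≤ 4) ∧ PresData f L := by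
  obtain ⟨m, rfl⟩ : ∃ m, n = m + 2 := ⟨n - 2, by omega⟩
  by_cases h5 : 5 ≤ m
  · obtain ⟨f, L, hL, hd⟩ := (ShortAlt.pres_big (ShortAlt.target_alt m) h5).1
    exact ⟨f, L, hL, fun e => by omega, hd⟩
  · obtain ⟨f, L, hL, hd⟩ := ShortAlt.pres_small (ShortAlt.target_alt m) (by omega)
    exact ⟨f, L, by omega, fun e => by omega, hd⟩

/-- Few generators of an alternating group. -/
theorem alt_gens (c : ℕ) : ∃ l : List (alternatingGroup (Fin c)), l.length ≤ 2 ∧
    (c ≤ 3 → l.length ≤ 1) ∧ (c ≤ 2 → l.length = 0) ∧ Subgroup.closure {g | g ∈ l} = ⊤ := by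
  rcases (show c ≤ 2 ∨ c = 3 ∨ 4 ≤ c by omega) with hc | rfl | hc
  · have : Subsingleton (alternatingGroup (Fin c)) := by
      rw [subsingleton_iff]
      intro a b
      rcases (show c = 0 ∨ c = 1 ∨ c = 2 by omega) with rfl | rfl | rfl
      · exact Subsingleton.elim a b
      · exact Subsingleton.elim a b
      · revert a b; decide
    exact ⟨[], by simp, fun _ => by simp, fun _ => rfl, Subsingleton.elim _ _⟩
  · let z : alternatingGroup (Fin 3) :=
      ⟨swap 0 1 * swap 1 2, Perm.mem_alternatingGroup.2 (by decide)⟩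
    refine ⟨[z], by simp, fun _ => by simp, fun h => absurd h (by omega), ?_⟩
    refine eq_top_iff.2 fun g _ => ?_
    have : g = 1 ∨ g = z ∨ g = z * z := by
      have key : ∀ g : alternatingGroup (Fin 3), g = 1 ∨ g = z ∨ g = z * z := by decide
      exact key g
    rcases this with rfl | rfl | rfl
    · exact one_mem _
    · exact Subgroup.subset_closure (by simp)
    · exact mul_mem (Subgroup.subset_closure (by simp)) (Subgroup.subset_closure (by simp))
  · obtain ⟨m, rfl⟩ : ∃ m, c = m + 2 := ⟨c - 2, by omega⟩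
    obtain ⟨f, L, -, hd⟩ := ShortAlt.pres_pair (ShortAlt.target_alt m) (by omega)
    refine ⟨[f 0, f 1], by simp, fun h => absurd h (by omega), fun h => absurd h (by omega), ?_⟩
    rw [← hd.2.1]
    congr 1
    ext g
    simp [Fin.exists_fin_two, eq_comm]

/-- Few generators of the even permutations fixing some points. -/
theorem alt_stab (S : Finset (Fin n)) : ∃ l : List (alternatingGroup (Fin n)),
    (∀ g ∈ l, ∀ i ∈ S, (g : Perm (Fin n)) i = i) ∧ l.length ≤ 2 ∧
    (n ≤ S.card + 3 → l.length ≤ 1) ∧ (n ≤ S.card + 2 → l.length = 0) ∧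
    ∀ g : alternatingGroup (Fin n), (∀ i ∈ S, (g : Perm (Fin n)) i = i) →
      g ∈ Subgroup.closure {x | x ∈ l} := by
  classical
  have hc : Fintype.card {i // i ∉ S} = n - S.card := by
    rw [Fintype.card_subtype_compl]; simp
  obtain ⟨l, hl, hl3, hl2, hgen⟩ := alt_gens (Fintype.card {i // i ∉ S})
  let e := (Fintype.equivFin {i // i ∉ S}).symm.permCongrHom
  let J : Perm (Fin (Fintype.card {i // i ∉ S})) →* Perm (Fin n) :=
    (Perm.ofSubtype (p := fun i => i ∉ S)).comp e.toMonoidHom
  have hsign : ∀ g, Perm.sign (J g) = Perm.sign g := fun g => by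
    show Perm.sign (Perm.ofSubtype (e g)) = _
    rw [Perm.sign_ofSubtype]
    exact Perm.sign_permCongr _ _
  let J' : alternatingGroup (Fin (Fintype.card {i // i ∉ S})) →* alternatingGroup (Fin n) :=
    (J.comp (Subgroup.subtype _)).codRestrict _ fun g => Perm.mem_alternatingGroup.2 (by
      show Perm.sign (J g.1) = 1
      rw [hsign]; exact Perm.mem_alternatingGroup.1 g.2)
  refine ⟨l.map J', ?_, by simpa using hl, fun h => by simpa using hl3 (by omega),
    fun h => by simpa using hl2 (by omega), fun σ hσ => ?_⟩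
  · intro g hg i hi
    obtain ⟨x, -, rfl⟩ := List.mem_map.1 hg
    exact Perm.ofSubtype_apply_of_not_mem _ (not_not.2 hi)
  have hin : ∀ i, i ∉ S → (σ : Perm (Fin n)) i ∉ S := fun i hi h => hi (by
    have := (σ : Perm (Fin n)).injective (hσ _ h); rwa [this] at h)
  obtain ⟨g, hg⟩ : ∃ g, J g = (σ : Perm (Fin n)) := by
    refine ⟨e.symm ((σ : Perm (Fin n)).subtypePerm fun i =>
      ⟨fun h hs => h (by rw [hσ i hs]; exact hs), hin i⟩), ?_⟩
    show Perm.ofSubtype (e (e.symm _)) = _
    rw [MulEquiv.apply_symm_apply]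
    exact Perm.ofSubtype_subtypePerm _ fun i hi hs => hi (hσ i hs)
  have hga : g ∈ alternatingGroup _ := Perm.mem_alternatingGroup.2 (by
    rw [← hsign, hg]; exact Perm.mem_alternatingGroup.1 σ.2)
  rw [show σ = J' ⟨g, hga⟩ from Subtype.ext hg.symm,
    show {x | x ∈ l.map J'} = J' '' {x | x ∈ l} by ext; simp, ← MonoidHom.map_closure, hgen]
  exact ⟨_, trivial, rfl⟩

end CfsgLib.Pres.SU.Chain
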