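import Cfsg.Agent.Lib.Pres.SU.Chain.Perm

/-!
A group generated by an alternating group and `SU 4`, amalgamated along four coordinates, with the
relations on the stabiliser of three coordinates: the root subgroups of three coordinates.
-/

set_option autoImplicit false

namespace CfsgLib.Pres.SU.Chain

open Matrix Equiv CfsgLib.Classical CfsgLib.Classical.Unitary

variable {F : Type*} [Field F] {σ : F →+* F} {q n : ℕ}

/-- The first three coordinates in `SU n`. -/
abbrev f3 (hn : 5 ≤ n) : Fin 3 ↪ Fin n := low (show 3 ≤ n by omega)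

/-- The first four coordinates in `SU n`. -/
abbrev f4 (hn : 5 ≤ n) : Fin 4 ↪ Fin n := low (show 4 ≤ n by omega)

/-- The first three coordinates in `SU 4`. -/
abbrev f34 : Fin 3 ↪ Fin 4 := low (show 3 ≤ 4 by omega)

/-- Three coordinates containing the first two. -/
def fI (hn : 5 ≤ n) (i : Fin n) : Fin 3 ↪ Fin n :=
  (f3 hn).trans ((gP hn i : alternatingGroup (Fin n)) : Perm (Fin n)).toEmbedding

/-- The conditions. -/
structure Amalg (h : UFrob σ q) (hn : 5 ≤ n) (X : Type*) [Group X] where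
  ψ : alternatingGroup (Fin n) →* X
  ι : Cfsg.SU 4 F q →* X
  π : X →* Cfsg.SU n F q
  πψ : ∀ g, π (ψ g) = permSU h g
  πι : ∀ x, π (ι x) = embF h (f4 hn) x
  gen : Subgroup.closure (Set.range ψ ∪ Set.range ι) = ⊤
  agree : ∀ (g : alternatingGroup (Fin n)) (x : Cfsg.SU 4 F q),
    (∀ j : Fin n, 4 ≤ j.val → (g : Perm (Fin n)) j = j) → embF h (f4 hn) x = permSU h g → ψ g = ι x
  stab : ∀ g : alternatingGroup (Fin n), (g : Perm (Fin n)) (p0 hn) = p0 hn →
    (g : Perm (Fin n)) (p1 hn) = p1 hn → (g : Perm (Fin n)) (p2 hn) = p2 hn →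
    ∀ x, Commute (ψ g) (ι (embF h f34 x))
  rho : ∀ x, ∃ y, ψ (dsw hn ⟨3, by omega⟩ ⟨4, by omega⟩) * ι (embF h f34 x) *
    (ψ (dsw hn ⟨3, by omega⟩ ⟨4, by omega⟩))⁻¹ = ι (embF h f34 y)

namespace Amalg

variable {h : UFrob σ q} {hn : 5 ≤ n} {X : Type*} [Group X] (A : Amalg h hn X)

/-- The subgroup of the first three coordinates. -/
def K2 : Cfsg.SU 3 F q →* X := A.ι.comp (embF h f34)

/-- The subgroup of three coordinates containing the first two. -/
def K (i : Fin n) : Cfsg.SU 3 F q →* X :=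
  (MulAut.conj (A.ψ (gP hn i))).toMonoidHom.comp A.K2

theorem K_apply (i : Fin n) (x : Cfsg.SU 3 F q) :
    A.K i x = A.ψ (gP hn i) * A.K2 x * (A.ψ (gP hn i))⁻¹ := rfl

theorem π_K2 (x : Cfsg.SU 3 F q) : A.π (A.K2 x) = embF h (f3 hn) x := by
  show A.π (A.ι (embF h f34 x)) = _
  rw [A.πι, embF_comp, low_trans]

theorem π_K (i : Fin n) (x : Cfsg.SU 3 F q) : A.π (A.K i x) = embF h (fI hn i) x := by
  rw [K_apply, map_mul, map_mul, map_inv, A.πψ, A.π_K2, perm_conj]
  rfl

theorem K_two : A.K (p2 hn) = A.K2 := by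
  refine MonoidHom.ext fun x => ?_
  rw [K_apply, gP_two, map_one, one_mul, inv_one, mul_one]

theorem eq_of_π {i : Fin n} {z w : X} (hz : z ∈ (A.K i).range) (hw : w ∈ (A.K i).range)
    (e : A.π z = A.π w) : z = w := by
  obtain ⟨x, rfl⟩ := hz
  obtain ⟨y, rfl⟩ := hw
  rw [A.π_K, A.π_K] at e
  rw [embF_injective h _ e]

/-- A permutation fixing the third point and preserving the first two normalises the subgroup. -/
theorem base_conj {g : alternatingGroup (Fin n)} (h2 : (g : Perm (Fin n)) (p2 hn) = p2 hn)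
    (h01 : (g : Perm (Fin n)) (p0 hn) = p0 hn ∧ (g : Perm (Fin n)) (p1 hn) = p1 hn ∨
      (g : Perm (Fin n)) (p0 hn) = p1 hn ∧ (g : Perm (Fin n)) (p1 hn) = p0 hn)
    (x : Cfsg.SU 3 F q) : A.ψ g * A.K2 x * (A.ψ g)⁻¹ ∈ A.K2.range := by
  rcases h01 with ⟨h0, h1⟩ | ⟨h0, h1⟩
  · refine ⟨x, ?_⟩
    have : Commute (A.ψ g) (A.K2 x) := A.stab g h0 h1 h2 x
    rw [this.eq, mul_inv_cancel_right]
  · set r := dsw hn (⟨3, by omega⟩ : Fin n) ⟨4, by omega⟩ with hr
    have h34 : (⟨3, by omega⟩ : Fin n) ≠ ⟨4, by omega⟩ := by simp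
    have hri : r⁻¹ = r := dsw_inv (by simp) (by simp)
    have r0 : (r : Perm (Fin n)) (p0 hn) = p1 hn := dsw_p0 (by simp) (by simp) h34
    have r1 : (r : Perm (Fin n)) (p1 hn) = p0 hn := dsw_p1 (by simp) (by simp) h34
    have r2 : (r : Perm (Fin n)) (p2 hn) = p2 hn :=
      dsw_other (by simp) (by simp) h34 le_rfl (by simp [p2]) (by simp [p2])
    have hc : Commute (A.ψ (r * g)) (A.K2 x) := A.stab _
      (by rw [Subgroup.coe_mul, Perm.mul_apply, h0, r1])
      (by rw [Subgroup.coe_mul, Perm.mul_apply, h1, r0])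
      (by rw [Subgroup.coe_mul, Perm.mul_apply, h2, r2]) x
    obtain ⟨y, hy⟩ := A.rho x
    refine ⟨y, ?_⟩
    have hgr : g = r⁻¹ * (r * g) := by group
    rw [hgr, hri, map_mul, show A.K2 y = A.ι (embF h f34 y) from rfl, ← hy, ← hr]
    show A.ψ r * A.K2 x * (A.ψ r)⁻¹ = _
    rw [show A.ψ r * A.ψ (r * g) * A.K2 x * (A.ψ r * A.ψ (r * g))⁻¹ =
      A.ψ r * (A.ψ (r * g) * A.K2 x * (A.ψ (r * g))⁻¹) * (A.ψ r)⁻¹ by group, hc.eq,
      mul_inv_cancel_right]

/-- Permutations preserving the first two points permute the subgroups. -/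
theorem conj_mem {g : alternatingGroup (Fin n)} {i j : Fin n} (hi : 2 ≤ i.val) (hj : 2 ≤ j.val)
    (hij : (g : Perm (Fin n)) i = j)
    (h01 : (g : Perm (Fin n)) (p0 hn) = p0 hn ∧ (g : Perm (Fin n)) (p1 hn) = p1 hn ∨
      (g : Perm (Fin n)) (p0 hn) = p1 hn ∧ (g : Perm (Fin n)) (p1 hn) = p0 hn)
    (x : Cfsg.SU 3 F q) : A.ψ g * A.K i x * (A.ψ g)⁻¹ ∈ (A.K j).range := by
  obtain ⟨y, hy⟩ := A.base_conj (g := (gP hn j)⁻¹ * g * gP hn i) (by
    rw [gP_inv hj, Subgroup.coe_mul, Subgroup.coe_mul, Perm.mul_apply, Perm.mul_apply, gP_apply_two hi,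
      hij]
    nth_rw 2 [← gP_apply_two (hn := hn) hj]
    rw [← Perm.mul_apply, ← Subgroup.coe_mul, show gP hn j * gP hn j = 1 from dsw_sq le_rfl hj]
    rfl) (by
    rw [gP_inv hj]
    simp only [Subgroup.coe_mul, Perm.mul_apply]
    rcases gP_first (hn := hn) i hi with ⟨a0, a1⟩ | ⟨a0, a1⟩ <;> rw [a0, a1] <;>
      rcases h01 with ⟨b0, b1⟩ | ⟨b0, b1⟩ <;> rw [b0, b1] <;>
      rcases gP_first (hn := hn) j hj with ⟨c0, c1⟩ | ⟨c0, c1⟩ <;> simp [c0, c1]) x
  refine ⟨y, ?_⟩
  rw [K_apply, K_apply, hy, map_mul, map_mul, map_inv]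
  group

theorem conj_dsw {a b i j : Fin n} (ha : 2 ≤ a.val) (hb : 2 ≤ b.val) (hab : a ≠ b) (hi : 2 ≤ i.val)
    (hj : 2 ≤ j.val) (hij : ((dsw hn a b : alternatingGroup (Fin n)) : Perm (Fin n)) i = j)
    (x : Cfsg.SU 3 F q) :
    A.ψ (dsw hn a b) * A.K i x * (A.ψ (dsw hn a b))⁻¹ ∈ (A.K j).range :=
  A.conj_mem hi hj hij (Or.inr ⟨dsw_p0 ha hb hab, dsw_p1 ha hb hab⟩) x

/-- The subgroup of the first coordinates up to a bound. -/
def Z (m : ℕ) : Subgroup X :=
  Subgroup.closure (Set.range A.ι ∪ {z | ∃ a b : Fin n, 2 ≤ a.val ∧ b.val = a.val + 1 ∧ b.val < m ∧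
    z = A.ψ (dsw hn a b)})

theorem Z_mono {m m' : ℕ} (hm : m ≤ m') : A.Z m ≤ A.Z m' :=
  Subgroup.closure_mono (Set.union_subset_union_right _ fun _ ⟨a, b, h1, h2, h3, e⟩ =>
    ⟨a, b, h1, h2, by omega, e⟩)

theorem ι_mem (m : ℕ) (x : Cfsg.SU 4 F q) : A.ι x ∈ A.Z m :=
  Subgroup.subset_closure (Or.inl ⟨x, rfl⟩)

theorem dsw_mem {m : ℕ} {a b : Fin n} (ha : 2 ≤ a.val) (hb : b.val = a.val + 1) (hbm : b.val < m) :
    A.ψ (dsw hn a b) ∈ A.Z m :=
  Subgroup.subset_closure (Or.inr ⟨a, b, ha, hb, hbm, rfl⟩)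

theorem gP_mem {m : ℕ} : ∀ i : Fin n, 2 ≤ i.val → i.val < m → A.ψ (gP hn i) ∈ A.Z m := by
  intro i
  induction hv : i.val generalizing i with
  | zero => intro h2; omega
  | succ v ih =>
    intro h2 hm
    rcases Nat.lt_or_ge v 2 with hv2 | hv2
    · have : i = p2 hn := Fin.ext (by simp [p2]; omega)
      rw [this, gP_two, map_one]; exact one_mem _
    · let j : Fin n := ⟨v, by omega⟩
      have hj := ih j rfl hv2 (by omega)
      have hstep : A.ψ (dsw hn j i) ∈ A.Z m := A.dsw_mem hv2 (by simp [j]; omega) (by omega)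
      rcases Nat.lt_or_ge v 3 with hv3 | hv3
      · have : j = p2 hn := Fin.ext (by simp [p2, j]; omega)
        rw [gP, ← this]; exact hstep
      · have hd := dsw_braid (hn := hn) (x := p2 hn) (y := j) (z := i) le_rfl hv2 (by omega)
          (by simp [p2, j, Fin.ext_iff]; omega) (by simp [p2, Fin.ext_iff]; omega)
          (by simp [j, Fin.ext_iff]; omega)
        rw [gP, ← hd, map_mul, map_mul]
        exact mul_mem (mul_mem hstep hj) hstep

theorem K_mem {m : ℕ} {i : Fin n} (hi : 2 ≤ i.val) (him : i.val < m) (x : Cfsg.SU 3 F q) :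
    A.K i x ∈ A.Z m := by
  rw [K_apply]
  exact mul_mem (mul_mem (A.gP_mem i hi him) (A.ι_mem m _)) (inv_mem (A.gP_mem i hi him))

theorem π_Z {m : ℕ} (hm : 4 ≤ m) (hmn : m ≤ n) {x : X} (hx : x ∈ A.Z m) :
    A.π x ∈ (embF h (low hmn)).range := by
  have : A.Z m ≤ (embF h (low hmn)).range.comap A.π := by
    rw [Z, Subgroup.closure_le]
    rintro _ (⟨x, rfl⟩ | ⟨a, b, ha, hb, hbm, rfl⟩)
    · show A.π (A.ι x) ∈ (embF h (low hmn)).range
      rw [A.πι]
      exact ⟨embF h (low hm) x, by rw [embF_comp, low_trans]⟩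
    · show A.π (A.ψ (dsw hn a b)) ∈ (embF h (low hmn)).range
      rw [A.πψ]
      refine mem_range_embF h _ _ fun j hj => ?_
      have hjm : m ≤ j.val := by
        by_contra hlt
        exact hj ⟨j.val, by omega⟩ (Fin.ext rfl)
      rw [permSU_single, dsw_other ha (by omega) (fun e => by subst e; omega) (by omega)
        (fun e => by subst e; omega) (fun e => by subst e; omega)]
  exact this hx

theorem π_Z_onto [Finite F] (hF : Nat.card F = q ^ 2) {m : ℕ} (hm : 3 ≤ m) (hmn : m ≤ n)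
    (g : Cfsg.SU m F q) : ∃ x ∈ Subgroup.closure {z | ∃ i : Fin n, 2 ≤ i.val ∧ i.val < m ∧
      z ∈ (A.K i).range}, A.π x = embF h (low hmn) g := by
  have hle : triGen h (show 3 ≤ n by omega) m ≤ (Subgroup.closure {z | ∃ i : Fin n, 2 ≤ i.val ∧
      i.val < m ∧ z ∈ (A.K i).range}).map A.π := by
    rw [triGen, Subgroup.closure_le]
    rintro _ ⟨i, hi, him, M, rfl⟩
    obtain ⟨y, hy⟩ := mem_range_embF h (fI hn i) (embF h (tri (show 3 ≤ n by omega) i hi) M)
      fun j hj => by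
        refine embF_fix h _ M (fun l e => ?_) 1
        have h2 : (f3 hn) 2 = p2 hn := rfl
        rcases gP_first (hn := hn) i hi with ⟨a0, a1⟩ | ⟨a0, a1⟩ <;> fin_cases l
        · exact hj 0 (Eq.trans (a0.trans rfl) e)
        · exact hj 1 (Eq.trans (a1.trans rfl) e)
        · exact hj 2 (Eq.trans ((gP_apply_two hi).trans rfl) e)
        · exact hj 1 (Eq.trans (a1.trans rfl) e)
        · exact hj 0 (Eq.trans (a0.trans rfl) e)
        · exact hj 2 (Eq.trans ((gP_apply_two hi).trans rfl) e)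
    exact ⟨A.K i y, Subgroup.subset_closure ⟨i, hi, him, y, rfl⟩, by rw [A.π_K, hy]⟩
  obtain ⟨x, hx, e⟩ := hle (range_low_le hF h _ m hm hmn ⟨g, rfl⟩)
  exact ⟨x, hx, e⟩

theorem closure_K_le {m : ℕ} : Subgroup.closure {z | ∃ i : Fin n, 2 ≤ i.val ∧ i.val < m ∧
    z ∈ (A.K i).range} ≤ A.Z m := by
  rw [Subgroup.closure_le]
  rintro _ ⟨i, hi, him, x, rfl⟩
  exact A.K_mem hi him x

/-- An even permutation of the first points lies in the subgroup. -/
theorem alt_mem [Finite F] : ∀ m, 4 ≤ m → m ≤ n → ∀ g : alternatingGroup (Fin n),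
    (∀ j : Fin n, m ≤ j.val → (g : Perm (Fin n)) j = j) → A.ψ g ∈ A.Z m := by
  intro m hm
  induction m, hm using Nat.le_induction with
  | base =>
    intro _ g hg
    obtain ⟨x, hx⟩ := mem_range_embF h (f4 hn) (permSU h g) fun j hj => by
      rw [permSU_single, hg j (by
        by_contra hlt
        exact hj ⟨j.val, by omega⟩ (Fin.ext rfl))]
    rw [A.agree g x hg hx]
    exact A.ι_mem _ _
  | succ m hm ih =>
    intro hmn g hg
    let e : Fin n := ⟨m, by omega⟩
    have up : ∀ g : alternatingGroup (Fin n), (∀ j : Fin n, m + 1 ≤ j.val → (g : Perm (Fin n)) j = j) →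
        (g : Perm (Fin n)) e = e → A.ψ g ∈ A.Z (m + 1) := fun g hg he =>
      A.Z_mono (Nat.le_succ m) (ih (by omega) g fun j hj => by
        rcases eq_or_lt_of_le hj with hj' | hj'
        · rw [show j = e from Fin.ext hj'.symm, he]
        · exact hg j hj')
    by_cases he : (g : Perm (Fin n)) e = e
    · exact up g hg he
    set i := (g : Perm (Fin n)) e with hi
    have him : i.val < m := by
      by_contra hlt
      rcases eq_or_lt_of_le (Nat.le_of_not_lt hlt) with hj' | hj'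
      · exact he (Fin.ext hj'.symm)
      · exact he (((g : Perm (Fin n)).injective (hg i hj')))
    -- an element carrying the new point to `i`
    let r : alternatingGroup (Fin n) := ⟨swap (p0 hn) (p1 hn) * swap (p1 hn) (p2 hn),
      Perm.mem_alternatingGroup.2 (by
        rw [map_mul, Perm.sign_swap (by simp [p0, p1, Fin.ext_iff]),
          Perm.sign_swap (by simp [p1, p2, Fin.ext_iff])]; rfl)⟩
    have hem : 2 ≤ e.val := by simp [e]; omega
    have hgm : A.ψ (gP hn e) ∈ A.Z (m + 1) := A.gP_mem e hem (by simp [e])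
    have hr : A.ψ r ∈ A.Z (m + 1) := A.Z_mono (Nat.le_succ m) (ih (by omega) r fun j hj => by
      show swap (p0 hn) (p1 hn) (swap (p1 hn) (p2 hn) j) = j
      rw [swap_apply_of_ne_of_ne (a := p1 hn) (b := p2 hn) (by simp [p1, Fin.ext_iff]; omega) (by simp [p2, Fin.ext_iff]; omega),
        swap_apply_of_ne_of_ne (by simp [p0, Fin.ext_iff]; omega) (by simp [p1, Fin.ext_iff]; omega)])
    set u := gP hn e * r * gP hn e with hu
    have hne2 : p2 hn ≠ e := by simp [p2, e, Fin.ext_iff]; omega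
    have hue : (u : Perm (Fin n)) e = p1 hn ∨ (u : Perm (Fin n)) e = p0 hn := by
      have h2 : ((gP hn e : alternatingGroup (Fin n)) : Perm (Fin n)) e = p2 hn :=
        dsw_right le_rfl hem hne2
      have h3 : (r : Perm (Fin n)) (p2 hn) = p0 hn := by
        show swap (p0 hn) (p1 hn) (swap (p1 hn) (p2 hn) (p2 hn)) = _
        rw [swap_apply_right, swap_apply_right]
      left
      rw [hu, Subgroup.coe_mul, Subgroup.coe_mul, Perm.mul_apply, Perm.mul_apply, h2, h3]
      exact dsw_p0 le_rfl hem hne2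
    have hufix : ∀ j : Fin n, m + 1 ≤ j.val → (u : Perm (Fin n)) j = j := by
      intro j hj
      have h1 : ((gP hn e : alternatingGroup (Fin n)) : Perm (Fin n)) j = j :=
        dsw_other le_rfl hem hne2 (by omega) (by simp [p2, Fin.ext_iff]; omega)
          (by simp [e, Fin.ext_iff]; omega)
      rw [hu, Subgroup.coe_mul, Subgroup.coe_mul, Perm.mul_apply, Perm.mul_apply, h1]
      show ((gP hn e : alternatingGroup (Fin n)) : Perm (Fin n))
        (swap (p0 hn) (p1 hn) (swap (p1 hn) (p2 hn) j)) = j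
      rw [swap_apply_of_ne_of_ne (a := p1 hn) (by simp [p1, Fin.ext_iff]; omega)
        (by simp [p2, Fin.ext_iff]; omega), swap_apply_of_ne_of_ne
        (by simp [p0, Fin.ext_iff]; omega) (by simp [p1, Fin.ext_iff]; omega), h1]
    -- a permutation of the lower points carrying its value to `i`
    set a := (u : Perm (Fin n)) e with ha
    have ham : a.val < 2 := by rcases hue with e' | e' <;> rw [e'] <;> simp [p0, p1]
    obtain ⟨v, hv, hvfix, hve⟩ : ∃ v : alternatingGroup (Fin n), (v : Perm (Fin n)) a = i ∧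
        (∀ j : Fin n, m ≤ j.val → (v : Perm (Fin n)) j = j) ∧ A.ψ v ∈ A.Z (m + 1) := by
      rcases eq_or_ne a i with hai | hai
      · exact ⟨1, hai, fun _ _ => rfl, by rw [map_one]; exact one_mem _⟩
      obtain ⟨j, hj, hja, hji⟩ : ∃ j : Fin n, j.val < m ∧ j ≠ a ∧ j ≠ i := by
        by_contra hh
        push Not at hh
        have h0 := hh (p0 hn) (by simp [p0]; omega)
        have h1 := hh (p1 hn) (by simp [p1]; omega)
        have h2 := hh (p2 hn) (by simp [p2]; omega)
        have h3 := hh ⟨3, by omega⟩ (by simp; omega)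
        simp only [p0, p1, p2, ne_eq, Fin.ext_iff] at h0 h1 h2 h3
        omega
      let v : alternatingGroup (Fin n) := ⟨swap a i * swap a j, Perm.mem_alternatingGroup.2 (by
        rw [map_mul, Perm.sign_swap hai, Perm.sign_swap hja.symm]; rfl)⟩
      let v' := v⁻¹
      have hvf : ∀ l : Fin n, m ≤ l.val → (v : Perm (Fin n)) l = l := fun l hl => by
        show swap a i (swap a j l) = l
        rw [swap_apply_of_ne_of_ne (a := a) (b := j) (fun e => by subst e; omega)
          (fun e => by subst e; omega), swap_apply_of_ne_of_ne (fun e => by subst e; omega)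
          (fun e => by subst e; omega)]
      have hv'f : ∀ l : Fin n, m ≤ l.val → (v' : Perm (Fin n)) l = l := fun l hl => by
        show (v : Perm (Fin n))⁻¹ l = l
        rw [Perm.inv_eq_iff_eq]; exact (hvf l hl).symm
      refine ⟨v * v, ?_, fun l hl => by rw [Subgroup.coe_mul, Perm.mul_apply, hvf l hl, hvf l hl],
        A.Z_mono (Nat.le_succ m) (ih (by omega) _ fun l hl => by
          rw [Subgroup.coe_mul, Perm.mul_apply, hvf l hl, hvf l hl])⟩
      show swap a i (swap a j (swap a i (swap a j a))) = i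
      rw [swap_apply_left, swap_apply_of_ne_of_ne (a := a) (b := i) hja hji, swap_apply_right,
        swap_apply_left]
    have hh : A.ψ (v * u) ∈ A.Z (m + 1) := by
      rw [map_mul]
      exact mul_mem hve (by rw [hu, map_mul, map_mul]; exact mul_mem (mul_mem hgm hr) hgm)
    have := up ((v * u)⁻¹ * g) (fun j hj => by
      have hvu : ((v * u : alternatingGroup (Fin n)) : Perm (Fin n)) j = j := by
        rw [Subgroup.coe_mul, Perm.mul_apply, hufix j hj, hvfix j (by omega)]
      rw [Subgroup.coe_mul, Perm.mul_apply, hg j hj, InvMemClass.coe_inv, Perm.inv_eq_iff_eq, hvu]) (by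
      rw [Subgroup.coe_mul, Perm.mul_apply, ← hi, InvMemClass.coe_inv, Perm.inv_eq_iff_eq,
        Subgroup.coe_mul, Perm.mul_apply, ← ha, hv])
    have := mul_mem hh this
    rwa [← map_mul, mul_inv_cancel_left] at this

theorem Z_top [Finite F] : A.Z n = ⊤ := by
  rw [eq_top_iff, ← A.gen, Subgroup.closure_le]
  rintro _ (⟨g, rfl⟩ | ⟨x, rfl⟩)
  · exact A.alt_mem n (by omega) le_rfl g fun j hj => absurd j.isLt (by omega)
  · exact A.ι_mem n x

end Amalg

end CfsgLib.Pres.SU.Chain
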