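import Cfsg.Agent.Lib.Pres.SU.Chain.Step
import Cfsg.Agent.Lib.Pres.SU.Chain.Three

/-!
The conditions on the stabiliser of three coordinates follow from few relations.
-/

set_option autoImplicit false

namespace CfsgLib.Pres.SU.Chain

open Matrix Equiv CfsgLib.Classical CfsgLib.Classical.Unitary

variable {F : Type*} [Field F] {σ : F →+* F} {q n : ℕ} {X : Type*} [Group X]

/-- The first two of four coordinates. -/
abbrev f24 : Fin 2 ↪ Fin 4 := low (show 2 ≤ 4 by omega)

/-- The agreement on even permutations of four points. -/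
def Agree (h : UFrob σ q) (hn : 5 ≤ n) (ψ : alternatingGroup (Fin n) →* X)
    (ι : Cfsg.SU 4 F q →* X) : Prop :=
  ∀ (g : alternatingGroup (Fin n)) (x : Cfsg.SU 4 F q),
    (∀ j : Fin n, 4 ≤ j.val → (g : Perm (Fin n)) j = j) → embF h (f4 hn) x = permSU h g → ψ g = ι x

/-- The stabiliser of three points commutes with the subgroup. -/
def Stab (h : UFrob σ q) (hn : 5 ≤ n) (ψ : alternatingGroup (Fin n) →* X)
    (ι : Cfsg.SU 4 F q →* X) : Prop :=
  ∀ g : alternatingGroup (Fin n), (g : Perm (Fin n)) (p0 hn) = p0 hn →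
    (g : Perm (Fin n)) (p1 hn) = p1 hn → (g : Perm (Fin n)) (p2 hn) = p2 hn →
    ∀ x, Commute (ψ g) (ι (embF h f34 x))

/-- The odd permutation of three points normalises the subgroup. -/
def Rho (h : UFrob σ q) (hn : 5 ≤ n) (ψ : alternatingGroup (Fin n) →* X)
    (ι : Cfsg.SU 4 F q →* X) : Prop :=
  ∀ x, ∃ y, ψ (dsw hn ⟨3, by omega⟩ ⟨4, by omega⟩) * ι (embF h f34 x) *
    (ψ (dsw hn ⟨3, by omega⟩ ⟨4, by omega⟩))⁻¹ = ι (embF h f34 y)

variable {h : UFrob σ q} {hn : 5 ≤ n} {ψ : alternatingGroup (Fin n) →* X}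
  {ι : Cfsg.SU 4 F q →* X}

/-- Agreement from generators. -/
theorem agree_of_gens {l : List (alternatingGroup (Fin n))}
    (hfix : ∀ g ∈ l, ∀ j : Fin n, 4 ≤ j.val → (g : Perm (Fin n)) j = j)
    (hgen : ∀ g : alternatingGroup (Fin n), (∀ j : Fin n, 4 ≤ j.val → (g : Perm (Fin n)) j = j) →
      g ∈ Subgroup.closure {x | x ∈ l})
    (hval : ∀ g ∈ l, ∃ x, embF h (f4 hn) x = permSU h g ∧ ψ g = ι x) : Agree h hn ψ ι := by
  intro g x hg hx
  obtain ⟨y, hy1, hy2⟩ : ∃ y, embF h (f4 hn) y = permSU h g ∧ ψ g = ι y := by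
    refine Subgroup.closure_induction (p := fun g _ => ∃ y, embF h (f4 hn) y = permSU h g ∧ ψ g = ι y)
      (fun g hg => hval g hg) ⟨1, by simp⟩ ?_ ?_ (hgen g hg)
    · rintro a b _ _ ⟨u, hu, hu'⟩ ⟨v, hv, hv'⟩
      exact ⟨u * v, by rw [map_mul, map_mul, hu, hv], by rw [map_mul, map_mul, hu', hv']⟩
    · rintro a _ ⟨u, hu, hu'⟩
      exact ⟨u⁻¹, by rw [map_inv, map_inv, hu], by rw [map_inv, map_inv, hu']⟩
  rw [hy2, embF_injective h _ (hy1.trans hx.symm)]

theorem low_f4_f34 (hn : 5 ≤ n) (i : Fin 3) : (f4 hn) (f34 i) = (f3 hn) i := rfl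

/-- A relation on generators of the subgroup extends to the subgroup. -/
theorem of_gens {G : Type*} [Group G] {S : Set G} (hS : Subgroup.closure S = ⊤) (φ : G →* X)
    (R : Subgroup X) (hR : ∀ s ∈ S, φ s ∈ R) (x : G) : φ x ∈ R := by
  have : Subgroup.closure S ≤ R.comap φ := (Subgroup.closure_le _).2 hR
  rw [hS] at this
  exact this (Subgroup.mem_top x)

/-- Two generators of the subgroup of three coordinates suffice. -/
theorem cond_of_three {l : List (alternatingGroup (Fin n))}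
    (hgen : ∀ g : alternatingGroup (Fin n), (g : Perm (Fin n)) (p0 hn) = p0 hn →
      (g : Perm (Fin n)) (p1 hn) = p1 hn → (g : Perm (Fin n)) (p2 hn) = p2 hn →
      g ∈ Subgroup.closure {x | x ∈ l})
    {S : Set (Cfsg.SU 3 F q)} (hS : Subgroup.closure S = ⊤)
    (hstab : ∀ g ∈ l, ∀ s ∈ S, Commute (ψ g) (ι (embF h f34 s)))
    (hrho : ∀ s ∈ S, ∃ y, ψ (dsw hn ⟨3, by omega⟩ ⟨4, by omega⟩) * ι (embF h f34 s) *
      (ψ (dsw hn ⟨3, by omega⟩ ⟨4, by omega⟩))⁻¹ = ι (embF h f34 y)) :
    Stab h hn ψ ι ∧ Rho h hn ψ ι := by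
  constructor
  · intro g h0 h1 h2 x
    have hg := hgen g h0 h1 h2
    have hle : Subgroup.closure {x | x ∈ l} ≤
        (Subgroup.centralizer ((ι.comp (embF h f34)).range : Set X)).comap ψ := by
      rw [Subgroup.closure_le]
      intro g hg
      rw [SetLike.mem_coe, Subgroup.mem_comap, Subgroup.mem_centralizer_iff]
      rintro _ ⟨y, rfl⟩
      have : (ι.comp (embF h f34)) y ∈ Subgroup.centralizer {ψ g} :=
        of_gens hS (ι.comp (embF h f34)) _ (fun s hs => Subgroup.mem_centralizer_iff.2 fun t ht => by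
          rw [Set.mem_singleton_iff] at ht; subst ht; exact (hstab g hg s hs).eq) y
      exact (Subgroup.mem_centralizer_iff.1 this (ψ g) rfl).symm
    exact (Subgroup.mem_centralizer_iff.1 (hle hg) _ ⟨x, rfl⟩).symm
  · intro x
    have := of_gens hS
      ((MulAut.conj (ψ (dsw hn ⟨3, by omega⟩ ⟨4, by omega⟩))).toMonoidHom.comp (ι.comp (embF h f34)))
      (ι.comp (embF h f34)).range (fun s hs => by
        obtain ⟨y, hy⟩ := hrho s hs
        exact ⟨y, hy.symm⟩) x
    obtain ⟨y, hy⟩ := this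
    exact ⟨y, hy.symm⟩

/-- The relations on the first plane suffice unless the field has four elements. -/
theorem cond_of_plane [Finite F] (hF : Nat.card F = q ^ 2) (hq : 3 ≤ q) (ha : Agree h hn ψ ι)
    {l : List (alternatingGroup (Fin n))}
    (hgen : ∀ g : alternatingGroup (Fin n), (g : Perm (Fin n)) (p0 hn) = p0 hn →
      (g : Perm (Fin n)) (p1 hn) = p1 hn → g ∈ Subgroup.closure {x | x ∈ l})
    {S : Set (Cfsg.SU 2 F q)} (hS : Subgroup.closure S = ⊤)
    (hstab : ∀ g ∈ l, ∀ s ∈ S, Commute (ψ g) (ι (embF h f24 s))) :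
    Stab h hn ψ ι ∧ Rho h hn ψ ι := by
  have hC : ∀ g : alternatingGroup (Fin n), (g : Perm (Fin n)) (p0 hn) = p0 hn →
      (g : Perm (Fin n)) (p1 hn) = p1 hn → ∀ M, Commute (ψ g) (ι (embF h f24 M)) := by
    intro g h0 h1 M
    have hle : Subgroup.closure {x | x ∈ l} ≤
        (Subgroup.centralizer ((ι.comp (embF h f24)).range : Set X)).comap ψ := by
      rw [Subgroup.closure_le]
      intro g hg
      rw [SetLike.mem_coe, Subgroup.mem_comap, Subgroup.mem_centralizer_iff]
      rintro _ ⟨y, rfl⟩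
      have : (ι.comp (embF h f24)) y ∈ Subgroup.centralizer {ψ g} :=
        of_gens hS (ι.comp (embF h f24)) _ (fun s hs => Subgroup.mem_centralizer_iff.2 fun t ht => by
          rw [Set.mem_singleton_iff] at ht; subst ht; exact (hstab g hg s hs).eq) y
      exact (Subgroup.mem_centralizer_iff.1 this (ψ g) rfl).symm
    exact (Subgroup.mem_centralizer_iff.1 (hle (hgen g h0 h1)) _ ⟨M, rfl⟩).symm
  have h01' : (p0 hn) ≠ (p1 hn) := by simp [p0, p1, Fin.ext_iff]
  have h12' : (p1 hn) ≠ (p2 hn) := by simp [p1, p2, Fin.ext_iff]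
  have h02' : (p0 hn) ≠ (p2 hn) := by simp [p0, p2, Fin.ext_iff]
  -- permutations of the first three points
  have inner : ∀ g : alternatingGroup (Fin n), (∀ j : Fin n, 3 ≤ j.val → (g : Perm (Fin n)) j = j) →
      ∃ x, embF h (f3 hn) x = permSU h g ∧ ψ g = ι (embF h f34 x) := by
    intro g hg
    obtain ⟨x, hx⟩ := mem_range_embF h (f3 hn) (permSU h g) fun j hj => by
      rw [permSU_single, hg j (by
        by_contra hlt
        exact hj ⟨j.val, by omega⟩ (Fin.ext rfl))]
    refine ⟨x, hx, ha g _ (fun j hj => hg j (by omega)) ?_⟩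
    rw [embF_comp, low_trans]
    exact hx
  let r : alternatingGroup (Fin n) := ⟨swap (p0 hn) (p1 hn) * swap (p1 hn) (p2 hn),
    Perm.mem_alternatingGroup.2 (by rw [map_mul, Perm.sign_swap h01', Perm.sign_swap h12']; rfl)⟩
  have r0 : (r : Perm (Fin n)) (p0 hn) = p1 hn := by
    show swap (p0 hn) (p1 hn) (swap (p1 hn) (p2 hn) (p0 hn)) = _
    rw [swap_apply_of_ne_of_ne h01' h02', swap_apply_left]
  have r1 : (r : Perm (Fin n)) (p1 hn) = p2 hn := by
    show swap (p0 hn) (p1 hn) (swap (p1 hn) (p2 hn) (p1 hn)) = _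
    rw [swap_apply_left, swap_apply_of_ne_of_ne h02'.symm h12'.symm]
  have r2 : (r : Perm (Fin n)) (p2 hn) = p0 hn := by
    show swap (p0 hn) (p1 hn) (swap (p1 hn) (p2 hn) (p2 hn)) = _
    rw [swap_apply_right, swap_apply_right]
  have rfix : ∀ j : Fin n, 3 ≤ j.val → (r : Perm (Fin n)) j = j := fun j hj => by
    show swap (p0 hn) (p1 hn) (swap (p1 hn) (p2 hn) j) = j
    rw [swap_apply_of_ne_of_ne (a := p1 hn) (b := p2 hn) (by simp [p1, Fin.ext_iff]; omega)
      (by simp [p2, Fin.ext_iff]; omega), swap_apply_of_ne_of_ne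
      (by simp [p0, Fin.ext_iff]; omega) (by simp [p1, Fin.ext_iff]; omega)]
  obtain ⟨xr, hxr, hr⟩ := inner r rfix
  -- the second plane is the conjugate of the first
  have conj12 : ∀ M, ι (embF h f34 (embF h f12 M)) =
      ψ r * ι (embF h f24 M) * (ψ r)⁻¹ := by
    intro M
    rw [hr, ← map_inv, ← map_mul, ← map_mul]
    refine congrArg ι (embF_injective h (f4 hn) ?_)
    rw [map_mul, map_mul, map_inv, embF_comp, embF_comp, embF_comp, embF_comp, low_trans, low_trans,
      hxr, perm_conj]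
    congr 2
    ext i
    fin_cases i
    · exact congrArg Fin.val r0.symm
    · exact congrArg Fin.val r1.symm
  have conj01 : ∀ M, ι (embF h f34 (embF h f01 M)) = ι (embF h f24 M) := by
    intro M; rw [embF_comp, low_trans]
  constructor
  · intro g h0 h1 h2 x
    let H : Subgroup (Cfsg.SU 3 F q) :=
      (Subgroup.centralizer {ψ g}).comap (ι.comp (embF h f34))
    have hH : H = ⊤ := by
      refine top_of_planes hF h hq H (fun M => ?_) fun M => ?_
      · show ι (embF h f34 (embF h f01 M)) ∈ Subgroup.centralizer {ψ g}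
        rw [conj01, Subgroup.mem_centralizer_iff]
        intro t ht
        rw [Set.mem_singleton_iff] at ht; subst ht
        exact (hC g h0 h1 M).eq
      · show ι (embF h f34 (embF h f12 M)) ∈ Subgroup.centralizer {ψ g}
        rw [conj12, Subgroup.mem_centralizer_iff]
        intro t ht
        rw [Set.mem_singleton_iff] at ht; subst ht
        have hgr : g * r = r * g := by
          refine alt_ext fun j => ?_
          show (g : Perm (Fin n)) ((r : Perm (Fin n)) j) = (r : Perm (Fin n)) ((g : Perm (Fin n)) j)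
          by_cases hj : 3 ≤ j.val
          · have : 3 ≤ ((g : Perm (Fin n)) j).val := by
              by_contra hlt
              have hcase : (g : Perm (Fin n)) j = p0 hn ∨ (g : Perm (Fin n)) j = p1 hn ∨
                  (g : Perm (Fin n)) j = p2 hn := by simp only [p0, p1, p2, Fin.ext_iff]; omega
              rcases hcase with e | e | e
              · rw [(g : Perm (Fin n)).injective (e.trans h0.symm)] at hj; simp [p0] at hj
              · rw [(g : Perm (Fin n)).injective (e.trans h1.symm)] at hj; simp [p1] at hj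
              · rw [(g : Perm (Fin n)).injective (e.trans h2.symm)] at hj; simp [p2] at hj
            rw [rfix j hj, rfix _ this]
          · rcases (show j = p0 hn ∨ j = p1 hn ∨ j = p2 hn by
              simp only [p0, p1, p2, Fin.ext_iff]; omega) with rfl | rfl | rfl
            · rw [r0, h0, h1, r0]
            · rw [r1, h1, h2, r1]
            · rw [r2, h2, h0, r2]
        have hc : Commute (ψ g) (ψ r) := by
          show ψ g * ψ r = ψ r * ψ g
          rw [← map_mul, ← map_mul, hgr]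
        exact ((hc.mul_right (hC g h0 h1 M)).mul_right hc.inv_right).eq
    have hx : x ∈ H := hH ▸ Subgroup.mem_top x
    exact Subgroup.mem_centralizer_iff.1 hx (ψ g) rfl
  · intro x
    set ρ := dsw hn (⟨3, by omega⟩ : Fin n) ⟨4, by omega⟩ with hρ
    let R := (ι.comp (embF h f34)).range
    let H : Subgroup (Cfsg.SU 3 F q) :=
      R.comap ((MulAut.conj (ψ ρ)).toMonoidHom.comp (ι.comp (embF h f34)))
    have e34 : (⟨3, by omega⟩ : Fin n) ≠ ⟨4, by omega⟩ := by simp
    let ρ2 := dsw hn (p2 hn) (⟨3, by omega⟩ : Fin n)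
    have e23 : p2 hn ≠ (⟨3, by omega⟩ : Fin n) := by simp [p2, Fin.ext_iff]
    obtain ⟨x2, hx2⟩ := mem_range_embF h (f4 hn) (permSU h ρ2) fun j hj => by
      have hj4 : 4 ≤ j.val := by
        by_contra hlt
        exact hj ⟨j.val, by omega⟩ (Fin.ext rfl)
      rw [permSU_single, dsw_other le_rfl (by simp) e23 (by omega) (by simp [p2, Fin.ext_iff]; omega)
        (by simp [Fin.ext_iff]; omega)]
    have hψ2 : ψ ρ2 = ι x2 := ha ρ2 x2 (fun j hj => dsw_other le_rfl (by simp) e23 (by omega)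
      (by simp [p2, Fin.ext_iff]; omega) (by simp [Fin.ext_iff]; omega)) hx2
    -- the first plane
    have plane : ∀ M, ψ ρ * ι (embF h f24 M) * (ψ ρ)⁻¹ ∈ R := by
      intro M
      have hc : Commute (ψ (ρ2⁻¹ * ρ)) (ι (embF h f24 M)) := by
        refine hC _ ?_ ?_ M
        · rw [dsw_inv le_rfl (by simp), Subgroup.coe_mul, Perm.mul_apply, dsw_p0 (by simp) (by simp) e34,
            dsw_p1 le_rfl (by simp) e23]
        · rw [dsw_inv le_rfl (by simp), Subgroup.coe_mul, Perm.mul_apply, dsw_p1 (by simp) (by simp) e34,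
            dsw_p0 le_rfl (by simp) e23]
      have e : ψ ρ * ι (embF h f24 M) * (ψ ρ)⁻¹ = ι (x2 * embF h f24 M * x2⁻¹) := by
        rw [show ρ = ρ2 * (ρ2⁻¹ * ρ) by group, map_mul, hψ2,
          show ι x2 * ψ (ρ2⁻¹ * ρ) * ι (embF h f24 M) * (ι x2 * ψ (ρ2⁻¹ * ρ))⁻¹ =
          ι x2 * (ψ (ρ2⁻¹ * ρ) * ι (embF h f24 M) * (ψ (ρ2⁻¹ * ρ))⁻¹) * (ι x2)⁻¹ by group, hc.eq,
          mul_inv_cancel_right, map_mul, map_mul, map_inv]
      rw [e]
      obtain ⟨y, hy⟩ := mem_range_embF h (f3 hn) (embF h (f4 hn) (x2 * embF h f24 M * x2⁻¹))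
        fun j hj => by
          rw [map_mul, map_mul, map_inv, hx2, embF_comp, perm_conj]
          refine embF_fix h _ _ (fun i e => ?_) 1
          fin_cases i
          · exact hj 1 ((dsw_p0 (hn := hn) le_rfl (by simp) e23).symm.trans e)
          · exact hj 0 ((dsw_p1 (hn := hn) le_rfl (by simp) e23).symm.trans e)
      refine ⟨y, congrArg ι (embF_injective h (f4 hn) ?_)⟩
      rw [embF_comp, low_trans]
      exact hy
    have hH : H = ⊤ := by
      refine top_of_planes hF h hq H (fun M => ?_) fun M => ?_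
      · show ψ ρ * ι (embF h f34 (embF h f01 M)) * (ψ ρ)⁻¹ ∈ R
        rw [conj01]; exact plane M
      · show ψ ρ * ι (embF h f34 (embF h f12 M)) * (ψ ρ)⁻¹ ∈ R
        rw [conj12, show ψ ρ * (ψ r * ι (embF h f24 M) * (ψ r)⁻¹) * (ψ ρ)⁻¹ =
          (ψ ρ * ψ r * (ψ ρ)⁻¹) * (ψ ρ * ι (embF h f24 M) * (ψ ρ)⁻¹) * (ψ ρ * ψ r * (ψ ρ)⁻¹)⁻¹ by
            group]
        have hρr : ψ ρ * ψ r * (ψ ρ)⁻¹ ∈ R := by
          rw [← map_inv, ← map_mul, ← map_mul]
          obtain ⟨y, -, hy⟩ := inner (ρ * r * ρ⁻¹) fun j hj => by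
            have hi : 3 ≤ (((ρ⁻¹ : alternatingGroup (Fin n)) : Perm (Fin n)) j).val := by
              rw [dsw_inv (by simp) (by simp)]
              rcases eq_or_ne j ⟨3, by omega⟩ with h3 | h3
              · rw [h3, dsw_left (by simp) (by simp) e34]; simp
              rcases eq_or_ne j ⟨4, by omega⟩ with h4 | h4
              · rw [h4, dsw_right (by simp) (by simp) e34]
              rw [dsw_other (by simp) (by simp) e34 (by omega) h3 h4]; exact hj
            rw [Subgroup.coe_mul, Subgroup.coe_mul, Perm.mul_apply, Perm.mul_apply, rfix _ hi,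
              ← Perm.mul_apply, ← Subgroup.coe_mul, mul_inv_cancel]
            rfl
          exact ⟨y, hy.symm⟩
        exact R.mul_mem (R.mul_mem hρr (plane M)) (R.inv_mem hρr)
    have hx : x ∈ H := hH ▸ Subgroup.mem_top x
    obtain ⟨y, hy⟩ := hx
    exact ⟨y, hy.symm⟩

end CfsgLib.Pres.SU.Chain
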