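import Cfsg.Agent.Lib.Pres.SU.Step
import Mathlib.LinearAlgebra.Matrix.Permutation
import Mathlib.GroupTheory.SpecificGroups.Alternating

/-!
Coordinate subgroups and permutations in `SU n`, and generation by the subgroups of three
coordinates containing the first two.
-/

set_option autoImplicit false

namespace CfsgLib.Pres.SU.Chain

open Matrix Equiv CfsgLib.Classical CfsgLib.Classical.Unitary

variable {F : Type*} [Field F] {σ : F →+* F} {q k m n : ℕ}

/-- The columns of a set of coordinates. -/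
def colMat (F : Type*) [Field F] (f : Fin k → Fin n) : Matrix (Fin n) (Fin k) F :=
  (1 : Matrix (Fin n) (Fin n) F).submatrix id f

theorem colMat_mulVec (f : Fin k ↪ Fin n) (a : Fin k → F) (i : Fin k) :
    (colMat F f *ᵥ a) (f i) = a i := by
  simp [colMat, mulVec, dotProduct, Matrix.one_apply, f.injective.eq_iff]

theorem colMat_mulVec_off (f : Fin k ↪ Fin n) (a : Fin k → F) {j : Fin n} (hj : ∀ i, f i ≠ j) :
    (colMat F f *ᵥ a) j = 0 := by
  simp [colMat, mulVec, dotProduct, Matrix.one_apply, fun i => (hj i).symm]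

theorem colMat_transpose (f : Fin k ↪ Fin n) (x : Fin n → F) :
    ((colMat F f).map σ)ᵀ *ᵥ x = x ∘ f := funext fun i => by
  simp [colMat, mulVec, dotProduct, Matrix.one_apply, apply_ite σ]

theorem colMat_isFrame (σ : F →+* F) (f : Fin k ↪ Fin n) : IsFrame σ (colMat F f) :=
  Matrix.ext_iff_mulVec.2 fun a => by
    rw [← mulVec_mulVec, colMat_transpose, one_mulVec]
    exact funext fun i => colMat_mulVec f a i

/-- `SU k` on chosen coordinates. -/
def embF (h : UFrob σ q) (f : Fin k ↪ Fin n) : Cfsg.SU k F q →* Cfsg.SU n F q :=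
  frameHom h (colMat F f) (colMat_isFrame σ f)

theorem embF_on (h : UFrob σ q) (f : Fin k ↪ Fin n) (M : Cfsg.SU k F q) (x : Fin n → F)
    (i : Fin k) : ((embF h f M).1.1 *ᵥ x) (f i) = (M.1.1 *ᵥ (x ∘ f)) i := by
  rw [embF, frameHom_mulVec, colMat_transpose, Pi.add_apply, colMat_mulVec]
  simp

theorem embF_off (h : UFrob σ q) (f : Fin k ↪ Fin n) (M : Cfsg.SU k F q) (x : Fin n → F)
    {j : Fin n} (hj : ∀ i, f i ≠ j) : ((embF h f M).1.1 *ᵥ x) j = x j := by
  rw [embF, frameHom_mulVec, colMat_transpose, Pi.add_apply, colMat_mulVec_off f _ hj, add_zero]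

theorem embF_ext (h : UFrob σ q) (f : Fin k ↪ Fin n) (M : Cfsg.SU k F q) {g : Cfsg.SU n F q}
    (hon : ∀ x i, (g.1.1 *ᵥ x) (f i) = (M.1.1 *ᵥ (x ∘ f)) i)
    (hoff : ∀ x j, (∀ i, f i ≠ j) → (g.1.1 *ᵥ x) j = x j) : g = embF h f M :=
  su_ext fun x => funext fun j => by
    by_cases hj : ∃ i, f i = j
    · obtain ⟨i, rfl⟩ := hj; rw [hon, embF_on]
    · push Not at hj; rw [hoff x j hj, embF_off h f M x hj]

theorem embF_injective (h : UFrob σ q) (f : Fin k ↪ Fin n) : Function.Injective (embF h f) :=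
  fun M N e => su_ext fun a => funext fun i => by
    have := congrArg (fun g : Cfsg.SU n F q => (g.1.1 *ᵥ (colMat F f *ᵥ a)) (f i)) e
    simp only [embF_on] at this
    rwa [show (colMat F f *ᵥ a) ∘ f = a from funext fun l => colMat_mulVec f a l] at this

theorem embF_comp (h : UFrob σ q) (f : Fin k ↪ Fin m) (f' : Fin m ↪ Fin n)
    (M : Cfsg.SU k F q) : embF h f' (embF h f M) = embF h (f.trans f') M := by
  refine embF_ext h _ _ (fun x i => ?_) fun x j hj => ?_
  · show ((embF h f' (embF h f M)).1.1 *ᵥ x) (f' (f i)) = _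
    rw [embF_on, embF_on]; rfl
  · by_cases hj' : ∃ l, f' l = j
    · obtain ⟨l, rfl⟩ := hj'
      rw [embF_on, embF_off h f M _ fun i e => hj i (congrArg f' e)]; rfl
    · push Not at hj'; rw [embF_off h f' _ x hj']

theorem embF_fix (h : UFrob σ q) (f : Fin k ↪ Fin n) (M : Cfsg.SU k F q) {j : Fin n}
    (hj : ∀ i, f i ≠ j) (c : F) :
    (embF h f M).1.1 *ᵥ Pi.single j c = Pi.single j c := by
  rw [embF, frameHom_fix]
  rw [colMat_transpose]
  funext i
  simp [hj i]

theorem embF_single (h : UFrob σ q) (f : Fin k ↪ Fin n) (M : Cfsg.SU k F q) (i : Fin k) :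
    (embF h f M).1.1 *ᵥ Pi.single (f i) 1 = colMat F f *ᵥ (M.1.1 *ᵥ Pi.single i 1) := by
  rw [embF, ← frameHom_frame h (colMat F f) (colMat_isFrame σ f)]
  congr 1
  funext j
  by_cases hj : ∃ l, f l = j
  · obtain ⟨l, rfl⟩ := hj
    rw [colMat_mulVec, Pi.single_apply, Pi.single_apply]
    simp [f.injective.eq_iff]
  · push Not at hj
    rw [colMat_mulVec_off f _ hj, Pi.single_apply, if_neg fun e => hj i e.symm]

/-- An element fixing the other coordinates is in the coordinate subgroup. -/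
theorem mem_range_embF (h : UFrob σ q) (f : Fin k ↪ Fin n) (g : Cfsg.SU n F q)
    (hg : ∀ j, (∀ i, f i ≠ j) → g.1.1 *ᵥ Pi.single j 1 = Pi.single j 1) :
    g ∈ (embF h f).range := by
  have hrow : ∀ (x : Fin n → F) j, (∀ i, f i ≠ j) → (g.1.1 *ᵥ x) j = x j := fun x j hj => by
    have := su_uh h g x (Pi.single j 1)
    rw [hg j hj, uh_single_right, uh_single_right] at this
    simpa using this
  let M : Matrix (Fin k) (Fin k) F := g.1.1.submatrix f f
  have hgP : ∀ a, g.1.1 *ᵥ (colMat F f *ᵥ a) = colMat F f *ᵥ (M *ᵥ a) := fun a => funext fun j => by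
    by_cases hj : ∃ i, f i = j
    · obtain ⟨i, rfl⟩ := hj
      rw [colMat_mulVec]
      show ∑ l, g.1.1 (f i) l * (colMat F f *ᵥ a) l = ∑ i', g.1.1 (f i) (f i') * a i'
      rw [← Finset.sum_subset (Finset.subset_univ (Finset.univ.image f)) fun l _ hl => by
        rw [colMat_mulVec_off f a fun i' hi' => hl (Finset.mem_image.2 ⟨i', Finset.mem_univ _, hi'⟩),
          mul_zero], Finset.sum_image fun a _ b _ hab => f.injective hab]
      simp [colMat_mulVec]
    · push Not at hj
      rw [hrow _ j hj, colMat_mulVec_off f _ hj, colMat_mulVec_off f _ hj]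
  have hMg : g.1.1 = 1 + colMat F f * (M - 1) * ((colMat F f).map σ)ᵀ :=
    Matrix.ext_iff_mulVec.2 fun x => by
      rw [add_mulVec, one_mulVec, ← mulVec_mulVec, ← mulVec_mulVec, colMat_transpose, sub_mulVec,
        one_mulVec, mulVec_sub]
      have hy : g.1.1 *ᵥ (x - colMat F f *ᵥ (x ∘ f)) = x - colMat F f *ᵥ (x ∘ f) := by
        conv_lhs => rw [← Finset.univ_sum_single (x - colMat F f *ᵥ (x ∘ f))]
        rw [mulVec_sum]
        conv_rhs => rw [← Finset.univ_sum_single (x - colMat F f *ᵥ (x ∘ f))]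
        refine Finset.sum_congr rfl fun j _ => ?_
        by_cases hj : ∃ i, f i = j
        · obtain ⟨i, rfl⟩ := hj; simp [colMat_mulVec]
        · push Not at hj
          rw [show (Pi.single j ((x - colMat F f *ᵥ (x ∘ f)) j) : Fin n → F) =
            (x - colMat F f *ᵥ (x ∘ f)) j • (Pi.single j 1 : Fin n → F) by
              rw [← Pi.single_smul']; simp, mulVec_smul, hg j hj]
      rw [mulVec_sub, hgP, sub_eq_iff_eq_add] at hy
      rw [hy]
      abel
  have hdet : M.det = 1 := by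
    have := g.1.2
    rwa [hMg, Matrix.mul_assoc, det_one_add_mul_comm, Matrix.mul_assoc, colMat_isFrame σ f,
      Matrix.mul_one, add_sub_cancel] at this
  refine ⟨⟨⟨M, hdet⟩, mem_SU_iff.2 fun a b => ?_⟩, Subtype.ext (Subtype.ext hMg.symm)⟩
  show Cfsg.hermForm k F q (M *ᵥ a) (M *ᵥ b) = _
  have := su_uh h g (colMat F f *ᵥ a) (colMat F f *ᵥ b)
  rw [hgP, hgP, uh_frame_left h (colMat F f), (colMat_isFrame σ f).apply,
    uh_frame_left h (colMat F f), (colMat_isFrame σ f).apply] at this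
  rw [h.hermForm_eq, h.hermForm_eq, this]

/-- The permutation matrices of determinant one. -/
def permSU (h : UFrob σ q) : alternatingGroup (Fin n) →* Cfsg.SU n F q where
  toFun g := ⟨⟨Equiv.Perm.permMatrix F (g : Perm (Fin n))⁻¹, by
      rw [Matrix.det_permutation, Perm.sign_inv, Perm.mem_alternatingGroup.1 g.2]; simp⟩,
    mem_SU_iff.2 fun x y => by
      show Cfsg.hermForm n F q (Equiv.Perm.permMatrix F (g : Perm (Fin n))⁻¹ *ᵥ x)
        (Equiv.Perm.permMatrix F (g : Perm (Fin n))⁻¹ *ᵥ y) = _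
      rw [h.hermForm_eq, h.hermForm_eq, Matrix.permMatrix_mulVec, Matrix.permMatrix_mulVec]
      simp only [uh, dotProduct, Function.comp_apply]
      exact Equiv.sum_comp (g : Perm (Fin n))⁻¹ fun i => x i * σ (y i)⟩
  map_one' := by
    refine Subtype.ext (Subtype.ext ?_)
    show Equiv.Perm.permMatrix F ((1 : alternatingGroup (Fin n)) : Perm (Fin n))⁻¹ = 1
    simp
  map_mul' a b := by
    refine su_ext fun x => ?_
    rw [su_mul_mulVec]
    show Equiv.Perm.permMatrix F ((a * b : alternatingGroup (Fin n)) : Perm (Fin n))⁻¹ *ᵥ x =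
      Equiv.Perm.permMatrix F (a : Perm (Fin n))⁻¹ *ᵥ
        (Equiv.Perm.permMatrix F (b : Perm (Fin n))⁻¹ *ᵥ x)
    rw [Matrix.permMatrix_mulVec, Matrix.permMatrix_mulVec, Matrix.permMatrix_mulVec]
    funext i
    simp

theorem permSU_mulVec (h : UFrob σ q) (g : alternatingGroup (Fin n)) (x : Fin n → F) (j : Fin n) :
    ((permSU h g).1.1 *ᵥ x) j = x ((g : Perm (Fin n))⁻¹ j) := by
  show (Equiv.Perm.permMatrix F (g : Perm (Fin n))⁻¹ *ᵥ x) j = _
  rw [Matrix.permMatrix_mulVec]; rfl

theorem permSU_single (h : UFrob σ q) (g : alternatingGroup (Fin n)) (j : Fin n) (c : F) :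
    (permSU h g).1.1 *ᵥ Pi.single j c = Pi.single ((g : Perm (Fin n)) j) c := by
  funext l
  rw [permSU_mulVec, Pi.single_apply, Pi.single_apply]
  simp [Equiv.symm_apply_eq]

/-- Conjugation by permutations. -/
theorem perm_conj (h : UFrob σ q) (g : alternatingGroup (Fin n)) (f : Fin k ↪ Fin n)
    (M : Cfsg.SU k F q) : permSU h g * embF h f M * (permSU h g)⁻¹ =
      embF h (f.trans (g : Perm (Fin n)).toEmbedding) M := by
  refine embF_ext h _ _ (fun x i => ?_) fun x j hj => ?_
  · rw [← map_inv, su_mul_mulVec, su_mul_mulVec]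
    show ((permSU h g).1.1 *ᵥ ((embF h f M).1.1 *ᵥ _)) ((g : Perm (Fin n)) (f i)) = _
    rw [permSU_mulVec, show (g : Perm (Fin n))⁻¹ ((g : Perm (Fin n)) (f i)) = f i by simp, embF_on]
    refine congrFun (congrArg (fun v => M.1.1 *ᵥ v) (funext fun l => ?_)) i
    show ((permSU h g⁻¹).1.1 *ᵥ x) (f l) = x ((g : Perm (Fin n)) (f l))
    rw [permSU_mulVec]
    simp
  · rw [← map_inv, su_mul_mulVec, su_mul_mulVec, permSU_mulVec,
      embF_off h f M _ fun i e => hj i (by
        show (g : Perm (Fin n)) (f i) = j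
        rw [e]; simp),
      permSU_mulVec]
    simp

/-- The first coordinates. -/
def low (h : m ≤ n) : Fin m ↪ Fin n := ⟨Fin.castLE h, Fin.castLE_injective h⟩

theorem low_trans {h : k ≤ m} {h' : m ≤ n} :
    (low h).trans (low h') = low (h.trans h') := by
  ext i; rfl

theorem low_ne {h : m ≤ n} {j : Fin n} (hj : m ≤ j.val) (i : Fin m) : low h i ≠ j := fun e => by
  have := congrArg Fin.val e
  simp [low] at this
  omega

/-- The first two coordinates and one more. -/
def tri (hn : 3 ≤ n) (i : Fin n) (hi : 2 ≤ i.val) : Fin 3 ↪ Fin n :=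
  ⟨![⟨0, by omega⟩, ⟨1, by omega⟩, i], by
    intro a b e
    fin_cases a <;> fin_cases b <;> simp [Fin.ext_iff] at e ⊢ <;> omega⟩

theorem tri_two (hn : 3 ≤ n) : tri hn ⟨2, by omega⟩ le_rfl = low hn := by
  ext i; fin_cases i <;> rfl

/-- The subgroups of three coordinates with the first two below a bound. -/
def triGen (h : UFrob σ q) (hn : 3 ≤ n) (m : ℕ) : Subgroup (Cfsg.SU n F q) :=
  Subgroup.closure {g | ∃ (i : Fin n) (hi : 2 ≤ i.val), i.val < m ∧ g ∈ (embF h (tri hn i hi)).range}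

/-- Generation by subgroups of three coordinates. -/
theorem range_low_le [Finite F] (hF : Nat.card F = q ^ 2) (h : UFrob σ q) (hn : 3 ≤ n) :
    ∀ m (hm : 3 ≤ m) (hmn : m ≤ n), (embF h (low hmn)).range ≤ triGen h hn m := by
  intro m hm
  induction m, hm using Nat.le_induction with
  | base =>
    rintro hmn _ ⟨M, rfl⟩
    refine Subgroup.subset_closure ⟨⟨2, by omega⟩, le_rfl, by simp, M, ?_⟩
    rw [tri_two]
  | succ m hm ih =>
    intro hmn
    set H := (triGen h hn (m + 1)).comap (embF h (low hmn)) with hH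
    have hmono : triGen h hn m ≤ triGen h hn (m + 1) :=
      Subgroup.closure_mono fun g ⟨i, hi, hlt, hg⟩ => ⟨i, hi, by omega, hg⟩
    let d : One σ (m + 1) := ⟨Pi.single (Fin.last m) 1, by simp [uh_single_left]⟩
    have hstab : ∀ g : Cfsg.SU (m + 1) F q, g.1.1 *ᵥ d.1 = d.1 → g ∈ H := by
      intro g hg
      obtain ⟨M, rfl⟩ := mem_range_embF h (low (Nat.le_succ m)) g fun j hj => by
        obtain ⟨i, rfl⟩ | rfl := j.eq_castSucc_or_eq_last
        · exact absurd rfl (hj i)
        · exact hg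
      show embF h (low hmn) (embF h (low (Nat.le_succ m)) M) ∈ triGen h hn (m + 1)
      rw [embF_comp, low_trans]
      exact hmono (ih _ ⟨M, rfl⟩)
    obtain ⟨x, hx⟩ := exists_su_map hF h
      (on_single (a := (Pi.single 2 1 : Fin 3 → F)) (σ := σ) (by simp [uh_single_left]))
      (on_single (a := (Pi.single 0 1 : Fin 3 → F)) (σ := σ) (by simp [uh_single_left])) (by omega)
    let f3 : Fin 3 ↪ Fin (m + 1) := tri (by omega) (Fin.last m) (by simp; omega)
    have ht : embF h f3 x ∈ H := by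
      show embF h (low hmn) (embF h f3 x) ∈ triGen h hn (m + 1)
      rw [embF_comp]
      refine Subgroup.subset_closure ⟨⟨m, by omega⟩, by simp; omega, by simp, x, ?_⟩
      congr 1
    have htd : uh σ ((embF h f3 x).1.1 *ᵥ d.1) d.1 = 0 := by
      show uh σ ((embF h f3 x).1.1 *ᵥ Pi.single (f3 2) 1) (Pi.single (f3 2) 1) = 0
      rw [embF_single, show x.1.1 *ᵥ Pi.single 2 1 = Pi.single 0 1 from hx 0, uh_single_right,
        colMat_mulVec]
      simp
    have := eq_top_of_stab hF h (by omega) d H hstab ht htd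
    rintro _ ⟨g, rfl⟩
    exact (this ▸ Subgroup.mem_top g : g ∈ H)

end CfsgLib.Pres.SU.Chain
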