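import Cfsg.Agent.Lib.Pres.SU.Chain.Gen

/-!
The permutations used in the chain, and the signed swap.
-/

set_option autoImplicit false

namespace CfsgLib.Pres.SU.Chain

open Matrix Equiv CfsgLib.Classical CfsgLib.Classical.Unitary

variable {n : ℕ}

/-- The first point. -/
def p0 (hn : 5 ≤ n) : Fin n := ⟨0, by omega⟩
/-- The second point. -/
def p1 (hn : 5 ≤ n) : Fin n := ⟨1, by omega⟩
/-- The third point. -/
def p2 (hn : 5 ≤ n) : Fin n := ⟨2, by omega⟩

/-- The swap of the first two points times another swap, for two points above them. -/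
def dsw (hn : 5 ≤ n) (a b : Fin n) : alternatingGroup (Fin n) :=
  if h : a = b then 1 else
    ⟨swap (p0 hn) (p1 hn) * swap a b, Perm.mem_alternatingGroup.2 (by
      rw [map_mul, Perm.sign_swap (by simp [p0, p1, Fin.ext_iff]), Perm.sign_swap h]; rfl)⟩

theorem dsw_val (hn : 5 ≤ n) {a b : Fin n} (h : a ≠ b) :
    ((dsw hn a b : alternatingGroup (Fin n)) : Perm (Fin n)) = swap (p0 hn) (p1 hn) * swap a b := by
  rw [dsw, dif_neg h]

variable {hn : 5 ≤ n} {a b : Fin n}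

theorem dsw_apply (ha : 2 ≤ a.val) (hb : 2 ≤ b.val) (hab : a ≠ b) (j : Fin n) :
    ((dsw hn a b : alternatingGroup (Fin n)) : Perm (Fin n)) j =
      if j = p0 hn then p1 hn else if j = p1 hn then p0 hn else if j = a then b else
        if j = b then a else j := by
  rw [dsw_val hn hab, Perm.mul_apply]
  have ha0 : a ≠ p0 hn := fun e => by simp [e, p0] at ha
  have ha1 : a ≠ p1 hn := fun e => by simp [e, p1] at ha
  have hb0 : b ≠ p0 hn := fun e => by simp [e, p0] at hb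
  have hb1 : b ≠ p1 hn := fun e => by simp [e, p1] at hb
  simp only [swap_apply_def]
  split_ifs <;> simp_all

theorem dsw_p0 (ha : 2 ≤ a.val) (hb : 2 ≤ b.val) (hab : a ≠ b) :
    ((dsw hn a b : alternatingGroup (Fin n)) : Perm (Fin n)) (p0 hn) = p1 hn := by
  rw [dsw_apply ha hb hab, if_pos rfl]

theorem dsw_p1 (ha : 2 ≤ a.val) (hb : 2 ≤ b.val) (hab : a ≠ b) :
    ((dsw hn a b : alternatingGroup (Fin n)) : Perm (Fin n)) (p1 hn) = p0 hn := by
  rw [dsw_apply ha hb hab, if_neg (by simp [p0, p1, Fin.ext_iff]), if_pos rfl]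

theorem dsw_left (ha : 2 ≤ a.val) (hb : 2 ≤ b.val) (hab : a ≠ b) :
    ((dsw hn a b : alternatingGroup (Fin n)) : Perm (Fin n)) a = b := by
  rw [dsw_apply ha hb hab, if_neg (fun e => by simp [e, p0] at ha),
    if_neg (fun e => by simp [e, p1] at ha), if_pos rfl]

theorem dsw_right (ha : 2 ≤ a.val) (hb : 2 ≤ b.val) (hab : a ≠ b) :
    ((dsw hn a b : alternatingGroup (Fin n)) : Perm (Fin n)) b = a := by
  rw [dsw_apply ha hb hab, if_neg (fun e => by simp [e, p0] at hb),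
    if_neg (fun e => by simp [e, p1] at hb), if_neg hab.symm, if_pos rfl]

theorem dsw_other (ha : 2 ≤ a.val) (hb : 2 ≤ b.val) (hab : a ≠ b) {j : Fin n} (hj : 2 ≤ j.val)
    (hja : j ≠ a) (hjb : j ≠ b) :
    ((dsw hn a b : alternatingGroup (Fin n)) : Perm (Fin n)) j = j := by
  rw [dsw_apply ha hb hab, if_neg (fun e => by simp [e, p0] at hj),
    if_neg (fun e => by simp [e, p1] at hj), if_neg hja, if_neg hjb]

theorem alt_ext {g g' : alternatingGroup (Fin n)}
    (h : ∀ j, (g : Perm (Fin n)) j = (g' : Perm (Fin n)) j) : g = g' :=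
  Subtype.ext (Equiv.ext h)

theorem dsw_sq (ha : 2 ≤ a.val) (hb : 2 ≤ b.val) : dsw hn a b * dsw hn a b = 1 := by
  rcases eq_or_ne a b with rfl | hab
  · rw [dsw, dif_pos rfl, one_mul]
  refine alt_ext fun j => ?_
  rw [Subgroup.coe_mul, Perm.mul_apply, Subgroup.coe_one, Perm.one_apply, dsw_apply ha hb hab,
    dsw_apply ha hb hab]
  have ha0 : a ≠ p0 hn := fun e => by simp [e, p0] at ha
  have ha1 : a ≠ p1 hn := fun e => by simp [e, p1] at ha
  have hb0 : b ≠ p0 hn := fun e => by simp [e, p0] at hb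
  have hb1 : b ≠ p1 hn := fun e => by simp [e, p1] at hb
  split_ifs <;> simp_all

theorem dsw_inv (ha : 2 ≤ a.val) (hb : 2 ≤ b.val) : (dsw hn a b)⁻¹ = dsw hn a b :=
  inv_eq_of_mul_eq_one_right (dsw_sq ha hb)

theorem dsw_braid {x y z : Fin n} (hx : 2 ≤ x.val) (hy : 2 ≤ y.val) (hz : 2 ≤ z.val)
    (hxy : x ≠ y) (hxz : x ≠ z) (hyz : y ≠ z) :
    dsw hn y z * dsw hn x y * dsw hn y z = dsw hn x z := by
  refine alt_ext fun j => ?_
  rw [Subgroup.coe_mul, Subgroup.coe_mul, Perm.mul_apply, Perm.mul_apply]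
  by_cases h0 : j = p0 hn
  · subst h0
    rw [dsw_p0 hy hz hyz, dsw_p1 hx hy hxy, dsw_p0 hy hz hyz, dsw_p0 hx hz hxz]
  by_cases h1 : j = p1 hn
  · subst h1
    rw [dsw_p1 hy hz hyz, dsw_p0 hx hy hxy, dsw_p1 hy hz hyz, dsw_p1 hx hz hxz]
  have hj : 2 ≤ j.val := by
    simp only [p0, p1, Fin.ext_iff] at h0 h1
    omega
  by_cases h2 : j = x
  · subst h2
    rw [dsw_other hy hz hyz hj hxy hxz, dsw_left hx hy hxy, dsw_left hy hz hyz, dsw_left hx hz hxz]
  by_cases h3 : j = z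
  · subst h3
    rw [dsw_right hy hz hyz, dsw_right hx hy hxy, dsw_other hy hz hyz hx hxy hxz, dsw_right hx hz hxz]
  by_cases h4 : j = y
  · subst h4
    rw [dsw_left hy hz hyz, dsw_other hx hy hxy hz hxz.symm hyz.symm, dsw_right hy hz hyz,
      dsw_other hx hz hxz hy hxy.symm hyz]
  rw [dsw_other hy hz hyz hj h4 h3, dsw_other hx hy hxy hj h2 h4, dsw_other hy hz hyz hj h4 h3,
    dsw_other hx hz hxz hj h2 h3]

/-- The element carrying the third point to a given one. -/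
def gP (hn : 5 ≤ n) (i : Fin n) : alternatingGroup (Fin n) := dsw hn (p2 hn) i

theorem gP_two : gP hn (p2 hn) = 1 := by rw [gP, dsw, dif_pos rfl]

theorem gP_apply_two {i : Fin n} (hi : 2 ≤ i.val) :
    ((gP hn i : alternatingGroup (Fin n)) : Perm (Fin n)) (p2 hn) = i := by
  rcases eq_or_ne (p2 hn) i with rfl | h
  · rw [gP_two]; rfl
  · rw [gP, dsw_left le_rfl hi h]

theorem gP_first (i : Fin n) (hi : 2 ≤ i.val) :
    ((gP hn i : alternatingGroup (Fin n)) : Perm (Fin n)) (p0 hn) = p0 hn ∧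
      ((gP hn i : alternatingGroup (Fin n)) : Perm (Fin n)) (p1 hn) = p1 hn ∨
    ((gP hn i : alternatingGroup (Fin n)) : Perm (Fin n)) (p0 hn) = p1 hn ∧
      ((gP hn i : alternatingGroup (Fin n)) : Perm (Fin n)) (p1 hn) = p0 hn := by
  rcases eq_or_ne (p2 hn) i with rfl | h
  · left; rw [gP_two]; exact ⟨rfl, rfl⟩
  · exact Or.inr ⟨dsw_p0 le_rfl hi h, dsw_p1 le_rfl hi h⟩

theorem gP_inv {i : Fin n} (hi : 2 ≤ i.val) : (gP hn i)⁻¹ = gP hn i := dsw_inv le_rfl hi

/-- The special unitary signed swap of the first two of three coordinates. -/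
theorem exists_k3 {F : Type*} [Field F] {σ : F →+* F} {q : ℕ} (h : UFrob σ q) :
    ∃ k : Cfsg.SU 3 F q, k.1.1 = !![0, 1, 0; 1, 0, 0; 0, 0, -1] := by
  refine ⟨⟨⟨!![0, 1, 0; 1, 0, 0; 0, 0, -1], by simp [Matrix.det_fin_three]⟩,
    mem_SU_iff.2 fun x y => ?_⟩, rfl⟩
  show Cfsg.hermForm 3 F q (!![0, 1, 0; 1, 0, 0; 0, 0, -1] *ᵥ x) (!![0, 1, 0; 1, 0, 0; 0, 0, -1] *ᵥ y) = _
  rw [h.hermForm_eq, h.hermForm_eq]
  simp [uh, dotProduct, Matrix.mulVec, Fin.sum_univ_three]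
  ring

end CfsgLib.Pres.SU.Chain
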