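import Cfsg.Agent.Lib.Pres.SU.Chain.Ref
import Cfsg.Agent.Lib.Pres.SU.Chain.Cond
import Cfsg.Agent.Lib.Pres.SU.Chain.Alt
import Cfsg.Agent.Lib.Pres.SU.Four.Pres

/-!
A presentation of `SU n`, `n ≥ 5`, on six generators with at most thirty-nine relations.
-/

set_option autoImplicit false

namespace CfsgLib.Pres.SU.Chain

open Matrix Equiv CfsgLib.Classical CfsgLib.Classical.Unitary CfsgLib.Pres
open scoped commutatorElement

variable {F : Type*} [Field F] [Finite F] {σ : F →+* F} {q n : ℕ}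

/-- The subgroup of `SU n` generated by permutations and the first four coordinates. -/
def X0 (h : UFrob σ q) (hn : 5 ≤ n) : Subgroup (Cfsg.SU n F q) :=
  Subgroup.closure (Set.range (permSU (n := n) h) ∪ Set.range (embF h (f4 hn)))

/-- The matrices form an amalgam. -/
def model (h : UFrob σ q) (hn : 5 ≤ n) : Amalg h hn (X0 h hn) where
  ψ := (permSU h).codRestrict _ fun g => Subgroup.subset_closure (Or.inl ⟨g, rfl⟩)
  ι := (embF h (f4 hn)).codRestrict _ fun x => Subgroup.subset_closure (Or.inr ⟨x, rfl⟩)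
  π := (X0 h hn).subtype
  πψ _ := rfl
  πι _ := rfl
  gen := by
    rw [eq_top_iff]
    intro x _
    have hx := x.2
    obtain ⟨y, hy, e⟩ : x.1 ∈ (Subgroup.closure
        (Set.range ((permSU h).codRestrict (X0 h hn) fun g => Subgroup.subset_closure (Or.inl ⟨g, rfl⟩)) ∪
          Set.range ((embF h (f4 hn)).codRestrict (X0 h hn) fun x =>
            Subgroup.subset_closure (Or.inr ⟨x, rfl⟩)))).map (X0 h hn).subtype := by
      refine (Subgroup.closure_le _).2 ?_ hx
      rintro _ (⟨g, rfl⟩ | ⟨g, rfl⟩)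
      · exact ⟨_, Subgroup.subset_closure (Or.inl ⟨g, rfl⟩), rfl⟩
      · exact ⟨_, Subgroup.subset_closure (Or.inr ⟨g, rfl⟩), rfl⟩
    rwa [← show y = x from Subtype.ext e]
  agree g x _ e := Subtype.ext e.symm
  stab g h0 h1 h2 x := by
    refine Subtype.ext (mul_inv_eq_iff_eq_mul.1 ?_)
    show permSU h g * embF h (f4 hn) (embF h f34 x) * (permSU h g)⁻¹ =
      embF h (f4 hn) (embF h f34 x)
    rw [embF_comp, low_trans]
    refine commute_embF h _ _ (fun i => ?_) x
    rw [permSU_single]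
    fin_cases i
    · exact congrArg (fun j => Pi.single j (1 : F)) h0
    · exact congrArg (fun j => Pi.single j (1 : F)) h1
    · exact congrArg (fun j => Pi.single j (1 : F)) h2
  rho x := by
    obtain ⟨y, hy⟩ := mem_range_embF h (f3 hn) (permSU h (dsw hn ⟨3, by omega⟩ ⟨4, by omega⟩) *
      embF h (f3 hn) x * (permSU h (dsw hn ⟨3, by omega⟩ ⟨4, by omega⟩))⁻¹) fun j hj => by
        rw [perm_conj]
        refine embF_fix h _ _ (fun i e => ?_) 1
        have e34 : (⟨3, by omega⟩ : Fin n) ≠ ⟨4, by omega⟩ := by simp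
        fin_cases i
        · exact hj 1 ((dsw_p0 (hn := hn) (by simp) (by simp) e34).symm.trans e)
        · exact hj 0 ((dsw_p1 (hn := hn) (by simp) (by simp) e34).symm.trans e)
        · exact hj 2 ((dsw_other (hn := hn) (j := p2 hn) (by simp) (by simp) e34 le_rfl
            (by simp [p2]) (by simp [p2])).symm.trans e)
    refine ⟨y, Subtype.ext ?_⟩
    show permSU h (dsw hn ⟨3, by omega⟩ ⟨4, by omega⟩) * embF h (f4 hn) (embF h f34 x) *
      (permSU h (dsw hn ⟨3, by omega⟩ ⟨4, by omega⟩))⁻¹ = embF h (f4 hn) (embF h f34 y)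
    rw [embF_comp, embF_comp, low_trans, hy]

theorem closure_top (hF : Nat.card F = q ^ 2) (h : UFrob σ q) (hn : 5 ≤ n) : X0 h hn = ⊤ := by
  refine eq_top_iff.2 fun g _ => ?_
  obtain ⟨x, -, e⟩ := (model h hn).π_Z_onto hF (m := n) (by omega) le_rfl g
  rw [show g = x.1 from ((embF_ext h _ g (fun v i => rfl)
    fun v j hj => absurd (Fin.ext rfl) (hj j)).trans e.symm)]
  exact x.2

theorem map_words {h : UFrob σ q} {hn : 5 ≤ n} {X : Type*} [Group X] (A : Amalg h hn X)
    {W : Type*} [Group W] (g : W →* X) (ψw : alternatingGroup (Fin n) → W)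
    (ιw : Cfsg.SU 4 F q → W) (gψ : ∀ a, g (ψw a) = A.ψ a) (gι : ∀ x, g (ιw x) = A.ι x) :
    (Subgroup.closure (Set.range ιw ∪ {z | ∃ a b : Fin n, 2 ≤ a.val ∧ b.val = a.val + 1 ∧
      b.val < 5 ∧ z = ψw (dsw hn a b)})).map g = A.Z 5 := by
  rw [MonoidHom.map_closure, Amalg.Z, Set.image_union, ← Set.range_comp]
  congr 2
  · exact congrArg Set.range (funext gι)
  · ext z
    constructor
    · rintro ⟨_, ⟨a, b, h1, h2, h3, rfl⟩, rfl⟩
      exact ⟨a, b, h1, h2, h3, gψ _⟩
    · rintro ⟨a, b, h1, h2, h3, rfl⟩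
      exact ⟨_, ⟨a, b, h1, h2, h3, rfl⟩, gψ _⟩

set_option maxHeartbeats 1000000 in
/-- Six generators. -/
theorem exists_pres (hF : Nat.card F = q ^ 2) (h : UFrob σ q) (hn : 5 ≤ n) :
    ∃ (f : Fin 2 ⊕ Fin 4 → Cfsg.SU n F q) (L : List (FreeGroup (Fin 2 ⊕ Fin 4))),
      L.length ≤ 39 ∧ (n = 5 → L.length ≤ 35) ∧ PresData f L := by
  classical
  obtain ⟨fA, LA, hLA, hLA5, hA⟩ := alt_pres (n := n) (by omega)
  obtain ⟨fI, LI, hLI, hLI2, hI⟩ := Four.exists_four hF
  choose wA hwA using exists_word hA.2.1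
  choose wI hwI using exists_word hI.2.1
  let σA : FreeGroup (Fin 2) →* FreeGroup (Fin 2 ⊕ Fin 4) :=
    FreeGroup.lift fun i => FreeGroup.of (Sum.inl i)
  let σI : FreeGroup (Fin 4) →* FreeGroup (Fin 2 ⊕ Fin 4) :=
    FreeGroup.lift fun i => FreeGroup.of (Sum.inr i)
  let ψw : alternatingGroup (Fin n) → FreeGroup (Fin 2 ⊕ Fin 4) := fun g => σA (wA g)
  let ιw : Cfsg.SU 4 F q → FreeGroup (Fin 2 ⊕ Fin 4) := fun x => σI (wI x)
  let f : Fin 2 ⊕ Fin 4 → Cfsg.SU n F q :=
    Sum.elim (fun i => permSU h (fA i)) fun i => embF h (f4 hn) (fI i)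
  obtain ⟨k, hk⟩ := exists_k3 (F := F) (σ := σ) h
  -- agreement
  obtain ⟨l4, hl4fix, hl4, -, -, hl4gen⟩ :=
    alt_stab ((Finset.univ : Finset (Fin n)).filter fun j => 4 ≤ j.val)
  have hl4fix' : ∀ g ∈ l4, ∀ j : Fin n, 4 ≤ j.val → (g : Perm (Fin n)) j = j :=
    fun g hg j hj => hl4fix g hg j (by simp [hj])
  have hex4 : ∀ g : alternatingGroup (Fin n), g ∈ l4 →
      ∃ x, embF h (f4 hn) x = permSU h g := fun g hg =>
    mem_range_embF h (f4 hn) (permSU h g) fun j hj => by
      rw [permSU_single, hl4fix' g hg j (by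
        by_contra hlt
        exact hj ⟨j.val, by omega⟩ (Fin.ext rfl))]
  choose x4 hx4 using hex4
  let L4 : List (FreeGroup (Fin 2 ⊕ Fin 4)) :=
    l4.attach.map fun g => ψw g.1 * (ιw (x4 g.1 g.2))⁻¹
  -- the stabiliser
  obtain ⟨LS, hLS, hLShold, hLSuniv⟩ : ∃ LS : List (FreeGroup (Fin 2 ⊕ Fin 4)),
      ((3 ≤ q → LS.length ≤ 4 ∧ (n = 5 → LS.length ≤ 2)) ∧
        (q = 2 → LS.length ≤ 6 ∧ (n = 5 → LS.length ≤ 2))) ∧
      (∀ (X : Type _) [Group X] (g : FreeGroup (Fin 2 ⊕ Fin 4) →* X)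
        (ψ : alternatingGroup (Fin n) →* X) (ι : Cfsg.SU 4 F q →* X) (π : X →* Cfsg.SU n F q),
        (∀ a, g (ψw a) = ψ a) → (∀ x, g (ιw x) = ι x) → Function.Injective π →
        (∀ a, π (ψ a) = permSU h a) → (∀ x, π (ι x) = embF h (f4 hn) x) →
        ∀ w ∈ LS, g w = 1) ∧
      ∀ (X : Type) [Group X] (g : FreeGroup (Fin 2 ⊕ Fin 4) →* X)
        (ψ : alternatingGroup (Fin n) →* X) (ι : Cfsg.SU 4 F q →* X),
        (∀ a, g (ψw a) = ψ a) → (∀ x, g (ιw x) = ι x) → (∀ w ∈ LS, g w = 1) →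
        Agree h hn ψ ι → Stab h hn ψ ι ∧ Rho h hn ψ ι := by
    by_cases hq : 3 ≤ q
    · obtain ⟨A, B, hAB⟩ := exists_two_su_two hF
      obtain ⟨l, hlfix, hl, hl3, -, hlgen⟩ := alt_stab ({p0 hn, p1 hn} : Finset (Fin n))
      have hcard : ({p0 hn, p1 hn} : Finset (Fin n)).card = 2 :=
        Finset.card_pair (by simp [p0, p1, Fin.ext_iff])
      let rel : alternatingGroup (Fin n) → Cfsg.SU 2 F q → FreeGroup (Fin 2 ⊕ Fin 4) :=
        fun a M => ⁅ψw a, ιw (embF h f24 M)⁆
      refine ⟨l.map (fun a => rel a A) ++ l.map (fun a => rel a B),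
        ⟨fun _ => ⟨by simp; omega, fun e => ?_⟩, fun e => by omega⟩, ?_, ?_⟩
      · have := hl3 (by rw [hcard]; omega)
        simp; omega
      · intro X _ g ψ ι π gψ gι hπ hπψ hπι w hw
        have key : ∀ a ∈ l, ∀ M, g (rel a M) = 1 := fun a ha M => by
          simp only [rel, map_commutatorElement, gψ, gι, commutatorElement_eq_one_iff_commute]
          show ψ a * ι _ = ι _ * ψ a
          refine hπ ?_
          simp only [map_mul, hπψ, hπι]
          refine mul_inv_eq_iff_eq_mul.1 ?_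
          rw [embF_comp, low_trans]
          refine commute_embF h _ _ (fun i => ?_) M
          rw [permSU_single]
          fin_cases i
          · exact congrArg (fun j => Pi.single j (1 : F)) (hlfix a ha (p0 hn) (by simp))
          · exact congrArg (fun j => Pi.single j (1 : F)) (hlfix a ha (p1 hn) (by simp))
        simp only [List.mem_append, List.mem_map] at hw
        rcases hw with ⟨a, ha, rfl⟩ | ⟨a, ha, rfl⟩ <;> exact key a ha _
      · intro X _ g ψ ι gψ gι hw hag
        refine cond_of_plane hF hq hag (l := l)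
          (fun a h0 h1 => hlgen a fun i hi => by
            simp only [Finset.mem_insert, Finset.mem_singleton] at hi
            rcases hi with rfl | rfl <;> assumption) hAB ?_
        rintro a ha s (rfl | rfl)
        all_goals
          rw [← gψ, ← gι, ← commutatorElement_eq_one_iff_commute, ← map_commutatorElement]
          exact hw _ (by simp only [rel, List.mem_append, List.mem_map]; first
            | exact Or.inl ⟨a, ha, rfl⟩
            | exact Or.inr ⟨a, ha, rfl⟩)
    · obtain rfl : q = 2 := by have := two_le_q hF; omega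
      obtain ⟨x, y, hxy⟩ := exists_two_su_three hF h
      obtain ⟨l, hlfix, hl, -, hl2, hlgen⟩ := alt_stab ({p0 hn, p1 hn, p2 hn} : Finset (Fin n))
      have hcard : ({p0 hn, p1 hn, p2 hn} : Finset (Fin n)).card = 3 := by
        rw [Finset.card_insert_of_notMem (by simp [p0, p1, p2, Fin.ext_iff]),
          Finset.card_pair (by simp [p1, p2, Fin.ext_iff])]
      have e34 : (⟨3, by omega⟩ : Fin n) ≠ ⟨4, by omega⟩ := by simp
      obtain ⟨ρ, hρ⟩ : ∃ ρ, ρ = dsw hn (⟨3, by omega⟩ : Fin n) ⟨4, by omega⟩ := ⟨_, rfl⟩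
      have himg : ∀ s : Cfsg.SU 3 F 2, ∃ s', embF h (f3 hn) s' =
          permSU h ρ * embF h (f3 hn) s * (permSU h ρ)⁻¹ := fun s => by
        obtain ⟨s', hs'⟩ := (model h hn).rho s
        refine ⟨s', ?_⟩
        have := congrArg (fun z : X0 h hn => z.1) hs'
        subst hρ
        change permSU h _ * embF h (f4 hn) (embF h f34 s) * (permSU h _)⁻¹ =
          embF h (f4 hn) (embF h f34 s') at this
        rw [embF_comp, embF_comp, low_trans] at this
        exact this.symm
      choose im him using himg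
      let rel : alternatingGroup (Fin n) → Cfsg.SU 3 F 2 → FreeGroup (Fin 2 ⊕ Fin 4) :=
        fun a M => ⁅ψw a, ιw (embF h f34 M)⁆
      let rel' : Cfsg.SU 3 F 2 → FreeGroup (Fin 2 ⊕ Fin 4) :=
        fun M => ψw ρ * ιw (embF h f34 M) * (ψw ρ)⁻¹ * (ιw (embF h f34 (im M)))⁻¹
      refine ⟨l.map (fun a => rel a x) ++ l.map (fun a => rel a y) ++ [rel' x, rel' y],
        ⟨fun e => by omega, fun _ => ⟨by simp; omega, fun e => ?_⟩⟩, ?_, ?_⟩
      · have := hl2 (by rw [hcard]; omega)
        simp; omega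
      · intro X _ g ψ ι π gψ gι hπ hπψ hπι w hw
        have key : ∀ a ∈ l, ∀ M, g (rel a M) = 1 := fun a ha M => by
          simp only [rel, map_commutatorElement, gψ, gι, commutatorElement_eq_one_iff_commute]
          show ψ a * ι _ = ι _ * ψ a
          refine hπ ?_
          simp only [map_mul, hπψ, hπι]
          refine mul_inv_eq_iff_eq_mul.1 ?_
          rw [embF_comp, low_trans]
          refine commute_embF h _ _ (fun i => ?_) M
          rw [permSU_single]
          fin_cases i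
          · exact congrArg (fun j => Pi.single j (1 : F)) (hlfix a ha (p0 hn) (by simp))
          · exact congrArg (fun j => Pi.single j (1 : F)) (hlfix a ha (p1 hn) (by simp))
          · exact congrArg (fun j => Pi.single j (1 : F)) (hlfix a ha (p2 hn) (by simp))
        have key' : ∀ M, g (rel' M) = 1 := fun M => by
          simp only [rel', map_mul, map_inv, gψ, gι]
          rw [mul_inv_eq_one]
          refine hπ ?_
          simp only [map_mul, map_inv, hπψ, hπι]
          rw [embF_comp, embF_comp, low_trans, him]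
        simp only [List.mem_append, List.mem_map, List.mem_cons, List.not_mem_nil, or_false] at hw
        rcases hw with (⟨a, ha, rfl⟩ | ⟨a, ha, rfl⟩) | rfl | rfl
        exacts [key a ha _, key a ha _, key' _, key' _]
      · intro X _ g ψ ι gψ gι hw _
        refine cond_of_three (l := l)
          (fun a h0 h1 h2 => hlgen a fun i hi => by
            simp only [Finset.mem_insert, Finset.mem_singleton] at hi
            rcases hi with rfl | rfl | rfl <;> assumption) hxy ?_ ?_
        · rintro a ha s (rfl | rfl)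
          all_goals
            rw [← gψ, ← gι, ← commutatorElement_eq_one_iff_commute, ← map_commutatorElement]
            exact hw _ (by simp only [rel, List.mem_append, List.mem_map]; first
              | exact Or.inl (Or.inl ⟨a, ha, rfl⟩)
              | exact Or.inl (Or.inr ⟨a, ha, rfl⟩))
        · intro s hs
          refine ⟨im s, ?_⟩
          have := hw (rel' s) (by rcases hs with rfl | rfl <;> simp)
          simp only [rel', map_mul, map_inv, gψ, gι, mul_inv_eq_one] at this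
          rw [← hρ]; exact this
  -- the squares
  obtain ⟨Zw, hZw⟩ : ∃ Zw : Subgroup (FreeGroup (Fin 2 ⊕ Fin 4)), Zw = Subgroup.closure
      (Set.range ιw ∪ {z | ∃ a b : Fin n, 2 ≤ a.val ∧ b.val = a.val + 1 ∧ b.val < 5 ∧
        z = ψw (dsw hn a b)}) := ⟨_, rfl⟩
  have fψ : ∀ a, FreeGroup.lift f (ψw a) = permSU h a := fun a => by
    conv_rhs => rw [← hwA a]
    exact DFunLike.congr_fun (FreeGroup.ext_hom ((FreeGroup.lift f).comp σA)
      ((permSU h).comp (FreeGroup.lift fA)) fun i => by simp [σA, f]) (wA a)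
  have fι : ∀ x, FreeGroup.lift f (ιw x) = embF h (f4 hn) x := fun x => by
    conv_rhs => rw [← hwI x]
    exact DFunLike.congr_fun (FreeGroup.ext_hom ((FreeGroup.lift f).comp σI)
      ((embF h (f4 hn)).comp (FreeGroup.lift fI)) fun i => by simp [σI, f]) (wI x)
  have hftop : ∀ w, FreeGroup.lift f w ∈ X0 h hn := fun w => by
    rw [closure_top hF h hn]; exact Subgroup.mem_top _
  let g0 : FreeGroup (Fin 2 ⊕ Fin 4) →* X0 h hn := (FreeGroup.lift f).codRestrict _ hftop
  have g0ψ : ∀ a, g0 (ψw a) = (model h hn).ψ a := fun a => Subtype.ext (fψ a)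
  have g0ι : ∀ x, g0 (ιw x) = (model h hn).ι x := fun x => Subtype.ext (fι x)
  let tw : FreeGroup (Fin 2 ⊕ Fin 4) :=
    if h6 : 6 ≤ n then
      ψw (dsw hn ⟨4, by omega⟩ ⟨5, by omega⟩) *
        (ψw (gP hn ⟨4, by omega⟩) * ιw (embF h f34 k) * (ψw (gP hn ⟨4, by omega⟩))⁻¹)
    else 1
  obtain ⟨LQ, hLQ, hLQhold, hLQuniv⟩ : ∃ LQ : List (FreeGroup (Fin 2 ⊕ Fin 4)),
      (LQ.length ≤ 3 ∧ ((q ≠ 2 ∨ n = 5) → LQ.length = 0)) ∧ (∀ w ∈ LQ, FreeGroup.lift f w = 1) ∧
      ∀ (X : Type) [Group X] (A : Amalg h hn X) (g : FreeGroup (Fin 2 ⊕ Fin 4) →* X),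
        (∀ a, g (ψw a) = A.ψ a) → (∀ x, g (ιw x) = A.ι x) → (∀ w, A.π (g w) = FreeGroup.lift f w) →
        (∀ w ∈ LQ, g w = 1) → A.Square k := by
    by_cases hq6 : q = 2 ∧ 6 ≤ n
    swap
    · exact ⟨[], ⟨by simp, fun _ => rfl⟩, by simp,
        fun X _ A g _ _ _ _ hq h6 => absurd ⟨hq, h6⟩ hq6⟩
    obtain ⟨hq, h6⟩ := hq6
    let c4 : Fin n := ⟨4, by omega⟩
    let d5 : Fin n := ⟨5, by omega⟩
    have hd : ∀ δ : {δ : F // δ * σ δ = 1}, ∃ w1 ∈ Zw, ∃ w2 ∈ Zw, ∃ w1' ∈ Zw, ∃ w2' ∈ Zw, ∃ wy ∈ Zw,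
        ∃ g : Cfsg.SU 6 F q,
          (Pi.single ⟨5, by omega⟩ 1 : Fin n → F) =
            colMat F (low h6) *ᵥ (g.1.1 *ᵥ Pi.single 0 δ.1) ∧
          (FreeGroup.lift f (w1 * tw)).1.1 *ᵥ Pi.single ⟨5, by omega⟩ 1 =
            colMat F (low h6) *ᵥ (g.1.1 *ᵥ Pi.single 1 1) ∧
          (FreeGroup.lift f (w1 * tw * w2 * tw)).1.1 *ᵥ Pi.single ⟨5, by omega⟩ 1 =
            colMat F (low h6) *ᵥ (g.1.1 *ᵥ (Pi.single 0 δ.1 + (Pi.single 2 1 + Pi.single 3 1))) ∧
          (FreeGroup.lift f (w1' * tw)).1.1 *ᵥ Pi.single ⟨5, by omega⟩ 1 =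
            colMat F (low h6) *ᵥ (g.1.1 *ᵥ (Pi.single 1 1 + (Pi.single 4 1 + Pi.single 5 1))) ∧
          FreeGroup.lift f (((w1' * tw * w2' * tw)⁻¹ * (w1 * tw * w2 * tw)) * wy⁻¹) = 1 := by
      intro δ
      obtain ⟨x1, hx1, x2, hx2, x1', hx1', x2', hx2', y, hy, g, ga, gw, gc, gw', ey⟩ :=
        (model h hn).exists_square_data hF hq hk h6 δ.2
      rw [← map_words (model h hn) g0 ψw ιw g0ψ g0ι, ← hZw] at hx1 hx2 hx1' hx2' hy
      obtain ⟨w1, h1, rfl⟩ := hx1
      obtain ⟨w2, h2, rfl⟩ := hx2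
      obtain ⟨w1', h1', rfl⟩ := hx1'
      obtain ⟨w2', h2', rfl⟩ := hx2'
      obtain ⟨wy, hwy, rfl⟩ := hy
      have htw : g0 tw = (model h hn).tE k ⟨4, by omega⟩ ⟨5, by omega⟩ := by
        simp only [tw, dif_pos h6, map_mul, map_inv, g0ψ, g0ι]
        rfl
      rw [← htw] at gw gc gw' ey
      simp only [← map_mul, ← map_inv] at gw gc gw' ey
      refine ⟨w1, h1, w2, h2, w1', h1', w2', h2', wy, hwy, g, ga, gw, gc, gw', ?_⟩
      rw [map_mul (FreeGroup.lift f) _ wy⁻¹, map_inv, mul_inv_eq_one]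
      exact ey.symm
    choose w1 h1 w2 h2 w1' h1' w2' h2' wy hwy g ga gw gc gw' ey using hd
    have : Fintype {δ : F // δ * σ δ = 1} := Fintype.ofFinite _
    let R : {δ : F // δ * σ δ = 1} → FreeGroup (Fin 2 ⊕ Fin 4) := fun δ =>
      ((w1' δ * tw * w2' δ * tw)⁻¹ * (w1 δ * tw * w2 δ * tw)) * (wy δ)⁻¹
    refine ⟨Finset.univ.toList.map R, ⟨?_, fun e => ?_⟩, ?_, ?_⟩
    · rw [List.length_map, Finset.length_toList, Finset.card_univ, ← Nat.card_eq_fintype_card]
      have hle : Nat.card {δ : F // δ * σ δ = 1} ≤ Nat.card (normOne F q) :=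
        Nat.card_le_card_of_injective (fun δ => (⟨Units.mk0 δ.1 (fun e => by
          have := δ.2; rw [e, zero_mul] at this; exact zero_ne_one this),
          MonoidHom.mem_ker.2 (Units.ext (by
            show δ.1 ^ (q + 1) = 1
            rw [pow_succ', ← h.pow]; exact δ.2))⟩ : normOne F q))
          fun a b e => Subtype.ext (congrArg (fun u : normOne F q => ((u : Fˣ) : F)) e)
      rw [card_normOne hF] at hle
      omega
    · rcases e with e | e <;> omega
    · intro w hw
      obtain ⟨δ, -, rfl⟩ := List.mem_map.1 hw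
      exact ey δ
    · intro X _ A g' gψ gι hπ hw hq' h6' δ hδ
      have hZ : Zw.map g' = A.Z 5 := by rw [hZw]; exact map_words A g' ψw ιw gψ gι
      have htw : g' tw = A.tE k ⟨4, by omega⟩ ⟨5, by omega⟩ := by
        simp only [tw, dif_pos h6', map_mul, map_inv, gψ, gι]
        rfl
      have mem : ∀ {w}, w ∈ Zw → g' w ∈ A.Z 5 := fun {w} hw => hZ ▸ ⟨w, hw, rfl⟩
      refine ⟨g' (w1 ⟨δ, hδ⟩), mem (h1 _), g' (w2 ⟨δ, hδ⟩), mem (h2 _), g' (w1' ⟨δ, hδ⟩),
        mem (h1' _), g' (w2' ⟨δ, hδ⟩), mem (h2' _), g ⟨δ, hδ⟩, ga ⟨δ, hδ⟩, ?_, ?_, ?_, ?_⟩ <;>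
        rw [← htw] <;> simp only [← map_mul, ← map_inv]
      · rw [hπ]; exact gw _
      · rw [hπ]; exact gc _
      · rw [hπ]; exact gw' _
      · have hR := hw (R ⟨δ, hδ⟩) (List.mem_map_of_mem (Finset.mem_toList.2 (Finset.mem_univ _)))
        simp only [R] at hR
        rw [map_mul, map_inv, mul_inv_eq_one] at hR
        rw [hR]
        exact mem (hwy _)
  -- the list
  let L : List (FreeGroup (Fin 2 ⊕ Fin 4)) := LA.map σA ++ LI.map σI ++ L4 ++ LS ++ LQ
  have hL4 : L4.length ≤ 2 := by simpa [L4] using hl4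
  have hlen : L.length = LA.length + LI.length + L4.length + LS.length + LQ.length := by
    simp [L, add_assoc]
  have hbound : L.length ≤ 39 ∧ (n = 5 → L.length ≤ 35) := by
    by_cases hq : q = 2
    · have := hLI2 hq
      have := hLS.2 hq
      exact ⟨by omega, fun e => by have := hLQ.2 (Or.inr e); have := this; have := hLA5 e; omega⟩
    · have : 3 ≤ q := by have := two_le_q hF; omega
      have := hLS.1 this
      have := hLQ.2 (Or.inl hq)
      exact ⟨by omega, fun e => by have := hLA5 e; omega⟩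
  refine ⟨f, L, hbound.1, hbound.2, ?_⟩
  have hhold : ∀ w ∈ L, FreeGroup.lift f w = 1 := by
    intro w hw
    simp only [L, List.mem_append] at hw
    rcases hw with (((hw | hw) | hw) | hw) | hw
    · obtain ⟨v, hv, rfl⟩ := List.mem_map.1 hw
      rw [show FreeGroup.lift f (σA v) = permSU h (FreeGroup.lift fA v) from
        DFunLike.congr_fun (FreeGroup.ext_hom ((FreeGroup.lift f).comp σA)
          ((permSU h).comp (FreeGroup.lift fA)) fun i => by simp [σA, f]) v, hA.1 v hv, map_one]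
    · obtain ⟨v, hv, rfl⟩ := List.mem_map.1 hw
      rw [show FreeGroup.lift f (σI v) = embF h (f4 hn) (FreeGroup.lift fI v) from
        DFunLike.congr_fun (FreeGroup.ext_hom ((FreeGroup.lift f).comp σI)
          ((embF h (f4 hn)).comp (FreeGroup.lift fI)) fun i => by simp [σI, f]) v, hI.1 v hv, map_one]
    · obtain ⟨⟨a, ha⟩, -, rfl⟩ := List.mem_map.1 hw
      rw [map_mul, map_inv, fψ, fι, hx4, mul_inv_cancel]
    · exact hLShold _ (FreeGroup.lift f) (permSU h) (embF h (f4 hn)) (MonoidHom.id _) fψ fι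
        Function.injective_id (fun _ => rfl) (fun _ => rfl) w hw
    · exact hLQhold w hw
  set R : Set (FreeGroup (Fin 2 ⊕ Fin 4)) := {w | w ∈ L}
  let π : PresentedGroup R →* Cfsg.SU n F q := PresentedGroup.toGroup fun w hw => hhold w hw
  have hx : ∀ w ∈ L, FreeGroup.lift (PresentedGroup.of (rels := R)) w = 1 := fun w hw => by
    rw [val_eq_lift]; exact PresentedGroup.one_of_mem hw
  set g := FreeGroup.lift (PresentedGroup.of (rels := R)) with hg
  obtain ⟨ψ, hψ⟩ := hA.lift (PresentedGroup R) (fun i => PresentedGroup.of (Sum.inl i)) fun w hw => by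
    rw [← hx (σA w) (by simp only [L, List.mem_append, List.mem_map];
                        exact Or.inl (Or.inl (Or.inl (Or.inl ⟨w, hw, rfl⟩))))]
    exact DFunLike.congr_fun (FreeGroup.ext_hom
      (FreeGroup.lift fun i => PresentedGroup.of (Sum.inl i)) (g.comp σA) fun i => by simp [σA, g]) w
  obtain ⟨ι, hι⟩ := hI.lift (PresentedGroup R) (fun i => PresentedGroup.of (Sum.inr i)) fun w hw => by
    rw [← hx (σI w) (by simp only [L, List.mem_append, List.mem_map];
                        exact Or.inl (Or.inl (Or.inl (Or.inr ⟨w, hw, rfl⟩))))]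
    exact DFunLike.congr_fun (FreeGroup.ext_hom
      (FreeGroup.lift fun i => PresentedGroup.of (Sum.inr i)) (g.comp σI) fun i => by simp [σI, g]) w
  have gψ : ∀ a, g (ψw a) = ψ a := fun a => by
    conv_rhs => rw [← hwA a]
    exact DFunLike.congr_fun (FreeGroup.ext_hom (g.comp σA) (ψ.comp (FreeGroup.lift fA))
      fun i => by simp [σA, g, hψ]) (wA a)
  have gι : ∀ x, g (ιw x) = ι x := fun x => by
    conv_rhs => rw [← hwI x]
    exact DFunLike.congr_fun (FreeGroup.ext_hom (g.comp σI) (ι.comp (FreeGroup.lift fI))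
      fun i => by simp [σI, g, hι]) (wI x)
  have hπg : ∀ w, π (g w) = FreeGroup.lift f w := fun w =>
    DFunLike.congr_fun (FreeGroup.ext_hom (π.comp g) (FreeGroup.lift f) fun i => by
      show π (g (FreeGroup.of i)) = FreeGroup.lift f (FreeGroup.of i)
      simp only [g, FreeGroup.lift_apply_of]; exact PresentedGroup.toGroup.of _) w
  have hag : Agree h hn ψ ι := by
    refine agree_of_gens (l := l4) hl4fix' (fun a ha => hl4gen a fun j hj => ha j (by simpa using hj))
      fun a ha => ⟨x4 a ha, hx4 a ha, ?_⟩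
    rw [← gψ, ← gι, ← mul_inv_eq_one, ← map_inv, ← map_mul]
    exact hx _ (by
      simp only [L, List.mem_append]
      exact Or.inl (Or.inl (Or.inr (List.mem_map.2 ⟨⟨a, ha⟩, List.mem_attach _ _, rfl⟩))))
  obtain ⟨hst, hrho⟩ := hLSuniv _ g ψ ι gψ gι
    (fun w hw => hx w (by simp only [L, List.mem_append]; exact Or.inl (Or.inr hw))) hag
  let A : Amalg h hn (PresentedGroup R) :=
    { ψ := ψ
      ι := ι
      π := π
      πψ := fun a => by rw [← gψ, hπg, fψ]
      πι := fun x => by rw [← gι, hπg, fι]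
      gen := by
        rw [eq_top_iff, ← PresentedGroup.closure_range_of R, Subgroup.closure_le]
        rintro _ ⟨i | i, rfl⟩
        · exact Subgroup.subset_closure (Or.inl ⟨fA i, hψ i⟩)
        · exact Subgroup.subset_closure (Or.inr ⟨fI i, hι i⟩)
      agree := hag
      stab := hst
      rho := hrho }
  have hbij : Function.Bijective π := A.bijective hF hk
    (hLQuniv _ A g gψ gι hπg fun w hw => hx w (by simp only [L, List.mem_append]; exact Or.inr hw))
  let e := MulEquiv.ofBijective π hbij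
  have hπof : ∀ i, π (PresentedGroup.of i) = f i := fun i => PresentedGroup.toGroup.of _
  refine ⟨hhold, ?_, fun Y _ x hxY _ => ?_⟩
  · rw [show Set.range f = e.toMonoidHom '' Set.range (PresentedGroup.of (rels := R)) by
      rw [← Set.range_comp]; exact congrArg Set.range (funext fun i => (hπof i).symm),
      ← MonoidHom.map_closure, PresentedGroup.closure_range_of]
    exact Subgroup.map_top_of_surjective _ e.surjective
  · refine ⟨(PresentedGroup.toGroup (rels := R) fun w hw => hxY w hw).comp e.symm.toMonoidHom,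
      fun i => ?_⟩
    have : e.symm (f i) = PresentedGroup.of i := by
      rw [MulEquiv.symm_apply_eq]; exact (hπof i).symm
    simp [this]

end CfsgLib.Pres.SU.Chain
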