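import Cfsg.Agent.Lib.Pres.SU.Chain.Step

/-!
The three squares over the field of four elements in dimension six, as elements.
-/

set_option autoImplicit false

namespace CfsgLib.Pres.SU.Chain

open Matrix Equiv CfsgLib.Classical CfsgLib.Classical.Unitary

variable {F : Type*} [Field F] [Finite F] {σ : F →+* F} {q n : ℕ}

namespace Amalg

variable {h : UFrob σ q} {hn : 5 ≤ n} {X : Type*} [Group X] (A : Amalg h hn X)

theorem emb_vec (h6 : 6 ≤ n) (M : Cfsg.SU 6 F q) (v : Fin 6 → F) :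
    (embF h (low h6) M).1.1 *ᵥ (colMat F (low h6) *ᵥ v) = colMat F (low h6) *ᵥ (M.1.1 *ᵥ v) :=
  frameHom_frame h (colMat F (low h6)) (colMat_isFrame σ (low h6)) M v

/-- The four elements of a square and a preimage of their product. -/
theorem exists_square_data (hF : Nat.card F = q ^ 2) (hq : q = 2) {k : Cfsg.SU 3 F q}
    (hk : k.1.1 = !![0, 1, 0; 1, 0, 0; 0, 0, -1]) (h6 : 6 ≤ n) {δ : F} (hδ : δ * σ δ = 1) :
    ∃ x1 ∈ A.Z 5, ∃ x2 ∈ A.Z 5, ∃ x1' ∈ A.Z 5, ∃ x2' ∈ A.Z 5, ∃ y ∈ A.Z 5, ∃ g : Cfsg.SU 6 F q,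
      (Pi.single ⟨5, by omega⟩ 1 : Fin n → F) =
        colMat F (low h6) *ᵥ (g.1.1 *ᵥ Pi.single 0 δ) ∧
      (A.π (x1 * A.tE k ⟨4, by omega⟩ ⟨5, by omega⟩)).1.1 *ᵥ Pi.single ⟨5, by omega⟩ 1 =
        colMat F (low h6) *ᵥ (g.1.1 *ᵥ Pi.single 1 1) ∧
      (A.π (x1 * A.tE k ⟨4, by omega⟩ ⟨5, by omega⟩ * x2 * A.tE k ⟨4, by omega⟩ ⟨5, by omega⟩)).1.1
          *ᵥ Pi.single ⟨5, by omega⟩ 1 =
        colMat F (low h6) *ᵥ (g.1.1 *ᵥ (Pi.single 0 δ + (Pi.single 2 1 + Pi.single 3 1))) ∧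
      (A.π (x1' * A.tE k ⟨4, by omega⟩ ⟨5, by omega⟩)).1.1 *ᵥ Pi.single ⟨5, by omega⟩ 1 =
        colMat F (low h6) *ᵥ (g.1.1 *ᵥ (Pi.single 1 1 + (Pi.single 4 1 + Pi.single 5 1))) ∧
      A.π y = A.π ((x1' * A.tE k ⟨4, by omega⟩ ⟨5, by omega⟩ * x2' *
          A.tE k ⟨4, by omega⟩ ⟨5, by omega⟩)⁻¹ *
        (x1 * A.tE k ⟨4, by omega⟩ ⟨5, by omega⟩ * x2 * A.tE k ⟨4, by omega⟩ ⟨5, by omega⟩)) := by
  subst hq
  have h2 : (2 : F) = 0 := two_eq_zero_of_q_two hF rfl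
  let c4 : Fin n := ⟨4, by omega⟩
  let d5 : Fin n := ⟨5, by omega⟩
  let e4 : Fin 6 := ⟨4, by omega⟩
  let e5 : Fin 6 := ⟨5, by omega⟩
  have hcd : c4 ≠ d5 := by simp [c4, d5, Fin.ext_iff]
  have htZ : A.tE k c4 d5 ∈ A.Z 6 :=
    mul_mem (A.dsw_mem (by simp [c4]) (by simp [c4, d5]) (by simp [d5]))
      (A.K_mem (by simp [c4]) (by simp [c4]) k)
  obtain ⟨T, hT⟩ := A.π_Z (by omega) h6 htZ
  obtain ⟨td, tc, -⟩ := A.π_tE hk (show 2 ≤ c4.val by simp [c4]) (show 2 ≤ d5.val by simp [d5]) hcd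
  rw [← hT] at td tc
  have l4 : low h6 e4 = c4 := rfl
  have l5 : low h6 e5 = d5 := rfl
  have Td : T.1.1 *ᵥ Pi.single e5 1 = Pi.single e4 1 := by
    refine colMat_injective (low h6) ?_
    rw [← emb_vec, colMat_single, colMat_single, l4, l5]; exact td
  have hd1 : uh σ (Pi.single e5 1 : Fin 6 → F) (Pi.single e5 1) = 1 := uh_single_self h e5
  have hc1 : uh σ (Pi.single e4 1 : Fin 6 → F) (Pi.single e4 1) = 1 := uh_single_self h e4
  have hdc : uh σ (Pi.single e5 1 : Fin 6 → F) (Pi.single e4 1) = 0 := by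
    simp [uh_single_left, e4, e5, Fin.ext_iff]
  have hδ0 : δ ≠ 0 := fun e => by simp [e] at hδ
  -- the frame
  have hon1 : ON σ (![Pi.single 0 1, Pi.single 1 1] : Fin 2 → Fin 6 → F) :=
    on_pair h (uh_single_self h _) (uh_single_self h _) (by simp [uh_single_left])
  have hon2 : ON σ (![δ⁻¹ • Pi.single e5 1, Pi.single e4 1] : Fin 2 → Fin 6 → F) :=
    on_pair h (by
      rw [uh_smul_left, uh_smul_right, hd1, mul_one, map_inv₀, ← mul_inv, hδ, inv_one]) hc1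
      (by rw [uh_smul_left, hdc, mul_zero])
  obtain ⟨g, hg⟩ := exists_su_map hF h hon1 hon2 (by omega)
  have g0 : g.1.1 *ᵥ Pi.single 0 δ = Pi.single e5 1 := by
    rw [su_single g 0 δ, show g.1.1 *ᵥ Pi.single 0 1 = δ⁻¹ • Pi.single e5 1 from hg 0, smul_smul,
      mul_inv_cancel₀ hδ0, one_smul]
  have g1 : g.1.1 *ᵥ Pi.single 1 1 = Pi.single e4 1 := hg 1
  obtain ⟨c, hc⟩ : ∃ c, c = g.1.1 *ᵥ (Pi.single 0 δ + (Pi.single 2 1 + Pi.single 3 1)) := ⟨_, rfl⟩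
  obtain ⟨w, hw⟩ : ∃ w, w = g.1.1 *ᵥ (Pi.single 1 1 + (Pi.single 4 1 + Pi.single 5 1)) := ⟨_, rfl⟩
  have cc : uh σ c c = 1 := by
    rw [hc, su_uh h]
    simp [uh_add_left, uh_single_left]
    linear_combination hδ + h2
  have ww : uh σ w w = 1 := by
    rw [hw, su_uh h]
    simp [uh_add_left, uh_single_left]
    linear_combination h2
  have hc4 : uh σ c (Pi.single e4 1) = 0 := by
    rw [hc, ← g1, su_uh h]; simp [uh_add_left, uh_single_left]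
  have hw5 : uh σ w (Pi.single e5 1) = 0 := by
    rw [hw, ← g0, su_uh h]; simp [uh_add_left, uh_single_left]
  have hcw : uh σ c w = 0 := by
    rw [hc, hw, su_uh h]; simp [uh_add_left, uh_single_left]
  -- lifting elements fixing the last point
  have lift5 : ∀ s : Cfsg.SU 6 F 2, s.1.1 *ᵥ Pi.single e5 1 = Pi.single e5 1 →
      ∃ x ∈ A.Z 5, A.π x = embF h (low h6) s := by
    intro s hs
    obtain ⟨M, hM⟩ := mem_range_embF h (low (show 5 ≤ 6 by omega)) s fun j hj => by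
      have : j = e5 := by
        by_contra hne
        simp [e5, Fin.ext_iff] at hne
        exact hj ⟨j.val, by omega⟩ (Fin.ext rfl)
      rw [this]; exact hs
    obtain ⟨x, hx, e⟩ := A.π_Z_onto hF (m := 5) (by omega) (by omega) M
    exact ⟨x, A.closure_K_le hx, by rw [e, ← hM, embF_comp, low_trans]⟩
  have move : ∀ v : Fin 6 → F, uh σ v v = 1 → uh σ v (Pi.single e5 1) = 0 →
      ∃ x ∈ A.Z 5, ∃ s, A.π x = embF h (low h6) s ∧ s.1.1 *ᵥ Pi.single e4 1 = v ∧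
        s.1.1 *ᵥ Pi.single e5 1 = Pi.single e5 1 := by
    intro v hv hv5
    obtain ⟨s, hs⟩ := exists_su_map hF h (on_pair h hd1 hc1 hdc)
      (on_pair h hd1 hv (h.swap_zero hv5)) (by omega)
    obtain ⟨x, hx, e⟩ := lift5 s (hs 0)
    exact ⟨x, hx, s, e, hs 1, hs 0⟩
  obtain ⟨x2, hx2, s2, e2, m2, f2⟩ := move ((T⁻¹).1.1 *ᵥ c) (by rw [su_uh h, cc]) (by
    rw [← su_uh h T, su_mulVec_inv, Td, hc4])
  obtain ⟨x1', hx1', s1', e1', m1', f1'⟩ := move w ww hw5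
  obtain ⟨x2', hx2', s2', e2', m2', f2'⟩ := move (((s1' * T)⁻¹).1.1 *ᵥ c) (by rw [su_uh h, cc]) (by
    rw [← su_uh h (s1' * T), su_mulVec_inv, su_mul_mulVec, Td, m1']; exact hcw)
  have dvec : (Pi.single d5 1 : Fin n → F) = colMat F (low h6) *ᵥ Pi.single e5 1 := by
    rw [colMat_single, l5]
  have p0 : A.π (1 * A.tE k c4 d5) = embF h (low h6) T := by rw [one_mul, hT]
  have pA : A.π (1 * A.tE k c4 d5 * x2 * A.tE k c4 d5) = embF h (low h6) (T * s2 * T) := by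
    rw [map_mul, map_mul, p0, e2, ← hT, map_mul, map_mul]
  have pB : A.π (x1' * A.tE k c4 d5 * x2' * A.tE k c4 d5) =
      embF h (low h6) (s1' * T * s2' * T) := by
    rw [map_mul, map_mul, map_mul, e1', e2', ← hT, map_mul, map_mul, map_mul]
  have cA : (T * s2 * T).1.1 *ᵥ Pi.single e5 1 = c := by
    rw [su_mul_mulVec, su_mul_mulVec, Td, m2, su_mulVec_inv]
  have cB : (s1' * T * s2' * T).1.1 *ᵥ Pi.single e5 1 = c := by
    rw [su_mul_mulVec, su_mul_mulVec, Td, m2', su_mulVec_inv]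
  obtain ⟨y, hy, ey⟩ := lift5 ((s1' * T * s2' * T)⁻¹ * (T * s2 * T)) (by
    rw [su_mul_mulVec, cA, ← cB, su_inv_mulVec])
  refine ⟨1, one_mem _, x2, hx2, x1', hx1', x2', hx2', y, hy, g, ?_, ?_, ?_, ?_, ?_⟩
  · show (Pi.single d5 1 : Fin n → F) = _
    rw [g0, dvec]
  · show (A.π (1 * A.tE k c4 d5)).1.1 *ᵥ Pi.single d5 1 = _
    rw [p0, dvec, emb_vec, Td, g1]
  · show (A.π (1 * A.tE k c4 d5 * x2 * A.tE k c4 d5)).1.1 *ᵥ Pi.single d5 1 = _
    rw [pA, dvec, emb_vec, cA, hc]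
  · show (A.π (x1' * A.tE k c4 d5)).1.1 *ᵥ Pi.single d5 1 = _
    rw [map_mul, e1', ← hT, ← map_mul, dvec, emb_vec, su_mul_mulVec, Td, m1', hw]
  · show A.π y = A.π ((x1' * A.tE k c4 d5 * x2' * A.tE k c4 d5)⁻¹ *
      (1 * A.tE k c4 d5 * x2 * A.tE k c4 d5))
    rw [map_mul A.π (_⁻¹) _, map_inv, pA, pB, ← map_inv, ← map_mul, ey]

end Amalg

end CfsgLib.Pres.SU.Chain
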